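import Cfsg.Agent.KM.Mu.Sp.Eng
import Cfsg.Agent.PQ.Spor.Tabs
import Cfsg.Agent.TH.Spor.J3Tab

/-!
# S4576, the sporadic rows: certificates (helper46; generator in `notes/RC`)
-/

set_option autoImplicit false
set_option maxRecDepth 100000

namespace Cfsg.Agent.KM.Mu.Sp

open Cfsg Cfsg.Agent.TAB Cfsg.Agent.TAB.Eng Cfsg.Agent.TAB.Use
open Cfsg.Agent.TAB.Sm2 (mkRows)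

theorem okJ3_3 : Ok TH.Spor.J3.dat TH.Spor.J3.tab [(3, 486), (8, 54)] [] [] [] [] false 3 4 2 :=
  ⟨⟨5, [5, 1, 3, 5, 1, 1, 1, 5, 3, 1, 1, 1, 1, 1], [0, 3, 3, 0, 3, 3, 3, 0, 3, 3, 3, 3, 3, 3], [(0, 5, [], .big 8 0 2
  1 3)]⟩, by decide +kernel⟩

theorem okMcL_3 : Ok McL.D McL.RR [(3, 1944), (11, 81)] [] [] [] [] false 3 4 2 :=
  ⟨⟨6, [6, 2, 6, 5, 1, 1, 0, 4, 4, 3, 0, 4, 1, 0, 4, 3, 3, 3], [0, 9, 0, 8, 9, 9, 9, 3, 3, 8, 9, 2, 9, 9, 3, 8, 8,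
  8], [(0, 6, [], .neg 1 1 5)]⟩, by decide +kernel⟩

theorem okCo2_3 : Ok Co2.D (mkRows Co2.A Co2.B) [(28, 324)] [] [] [] [] true 3 5 3 :=
  ⟨⟨6, [6, 4, 2, 2, 6, 5, 3, 1, 2, 1, 1, 1, 0, 1, 1, 4, 5, 3, 3, 2, 2, 0, 1, 1, 0, 0, 0, 0, 4, 1, 1, 0, 0, 4, 2, 4,
  2, 1, 3, 1, 3, 0, 0, 1, 4, 0, 0, 6, 0, 0, 0, 1, 3, 0, 1, 4], [0, 20, 14, 14, 0, 14, 14, 14, 14, 20, 14, 20, 28, 20,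
  14, 6, 6, 14, 14, 14, 14, 20, 20, 14, 20, 20, 20, 20, 6, 42, 14, 20, 51, 40, 14, 6, 14, 14, 40, 14, 40, 20, 20, 14,
  6, 20, 20, 0, 20, 20, 48, 14, 40, 20, 14, 6], [(0, 6, [], .neg 1 1 4)]⟩, by decide +kernel⟩

theorem okCo3_3 : Ok Co3.D (mkRows Co3.A Co3.B) [(1, 2903040), (4, 29160), (20, 81)] [] [] [] [] true 3 5 3 :=
  ⟨⟨7, [7, 4, 3, 7, 6, 4, 3, 2, 2, 2, 5, 5, 6, 6, 2, 1, 2, 2, 1, 7, 4, 3, 1, 1, 4, 3, 5, 1, 3, 5, 7, 3, 1, 1, 1, 3,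
  3, 3], [0, 20, 22, 0, 12, 22, 22, 22, 23, 23, 12, 12, 16, 16, 22, 22, 22, 22, 22, 0, 8, 12, 23, 22, 12, 12, 8, 22,
  12, 8, 0, 12, 22, 22, 22, 12, 12, 12], [(0, 7, [], .neg 1 1 1)]⟩, by decide +kernel⟩

theorem okCo1_3 : Ok Co1.D Co1.RR [] [] [6] [] [0] false 3 4 2 :=
  ⟨⟨9, [9, 5, 3, 3, 8, 8, 9, 5, 4, 3, 2, 2, 3, 1, 3, 2, 1, 5, 3, 6, 7, 4, 6, 4, 2, 2, 2, 1, 2, 1, 2, 0, 2, 2, 9, 9,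
  9, 1, 1, 1, 1, 1, 0, 2, 3, 3, 2, 5, 3, 3, 3, 2, 4, 3, 4, 3, 1, 2, 2, 1, 3, 2, 2, 2, 3, 0, 0, 8, 8, 8, 1, 0, 0, 2,
  2, 1, 2, 0, 2, 2, 2, 2, 2, 3, 1, 1, 1, 2, 1, 2, 3, 2, 2, 1, 7, 2, 0, 2, 2], [0, 24, 17, 37, 17, 24, 0, 37, 24, 33,
  96, 24, 17, 37, 17, 24, 96, 24, 17, 24, 9, 24, 90, 24, 37, 37, 24, 37, 24, 96, 24, 96, 35, 37, 0, 0, 0, 96, 96, 37,
  96, 96, 96, 24, 24, 24, 24, 90, 24, 17, 24, 24, 90, 24, 90, 17, 37, 35, 24, 37, 17, 24, 37, 24, 90, 96, 96, 1, 1,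
  1, 96, 96, 96, 24, 24, 37, 33, 96, 24, 24, 24, 35, 24, 90, 64, 37, 64, 24, 37, 24, 90, 24, 24, 37, 7, 35, 96, 24,
  24], [(1, 5, [51], .cong 1 [(1, 1)] [(1, 5)]), (8, 4, [], .cong 1 [(1, 0)] [])]⟩, by decide +kernel⟩

theorem okCo1_5 : Ok Co1.D Co1.RR [] [] [] [] [0] false 5 4 2 :=
  ⟨⟨4, [4, 2, 2, 1, 2, 1, 1, 1, 1, 0, 1, 0, 0, 1, 3, 3, 4, 1, 1, 1, 1, 0, 0, 0, 1, 0, 1, 0, 1, 0, 0, 0, 0, 0, 0, 0,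
  0, 2, 2, 2, 2, 3, 1, 0, 1, 0, 0, 0, 0, 0, 0, 0, 0, 0, 0, 0, 0, 0, 0, 0, 2, 2, 1, 1, 2, 0, 0, 0, 0, 0, 1, 1, 2, 0,
  0, 0, 0, 0, 0, 0, 0, 0, 0, 0, 0, 0, 0, 1, 1, 1, 2, 1, 0, 1, 0, 0, 1, 0, 1], [0, 5, 5, 5, 5, 5, 22, 10, 10, 38, 38,
  22, 22, 5, 6, 5, 0, 10, 5, 5, 22, 22, 22, 38, 10, 38, 14, 22, 10, 22, 22, 22, 38, 22, 22, 38, 22, 10, 5, 6, 5, 9,
  5, 55, 10, 22, 22, 22, 38, 38, 22, 38, 22, 22, 38, 22, 22, 38, 22, 22, 6, 5, 10, 5, 70, 22, 22, 22, 22, 22, 10, 5,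
  70, 22, 22, 22, 55, 79, 22, 22, 38, 22, 22, 38, 38, 22, 40, 10, 10, 5, 70, 5, 55, 14, 38, 38, 10, 22, 10], []⟩,
  by decide +kernel⟩

theorem okLy_3 : Ok Ly.dat Ly.tb [(13, 324)] [] [] [] [] true 3 6 4 :=
  ⟨⟨7, [7, 4, 7, 7, 2, 2, 1, 3, 5, 6, 1, 1, 2, 4, 2, 1, 1, 2, 4, 1, 2, 4, 1, 7, 1, 1, 1, 1, 5, 1, 1, 2, 4, 5, 1, 1,
  1, 1, 1], [0, 5, 0, 0, 5, 5, 5, 5, 22, 4, 13, 5, 24, 3, 5, 5, 5, 5, 22, 13, 5, 22, 5, 0, 5, 13, 5, 5, 4, 5, 5, 5,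
  22, 8, 5, 5, 5, 13, 13], [(0, 6, [], .kill 13 0)]⟩, by decide +kernel⟩

theorem okLy_5 : Ok Ly.dat Ly.tb [(29, 500)] [] [] [] [] true 5 5 3 :=
  ⟨⟨6, [6, 2, 3, 1, 1, 6, 6, 1, 1, 0, 0, 1, 0, 0, 4, 5, 0, 0, 0, 0, 4, 3, 5, 0, 3, 0, 0, 0, 0, 3, 0, 3, 3, 0, 0, 0,
  3, 0, 0], [0, 20, 25, 20, 20, 0, 0, 20, 25, 20, 20, 20, 20, 20, 4, 3, 20, 20, 25, 20, 4, 4, 3, 27, 4, 20, 25, 20,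
  25, 3, 20, 4, 4, 20, 20, 27, 4, 20, 25], [(0, 5, [], .kill 29 0)]⟩, by decide +kernel⟩

theorem okHN_3 : Ok HN.dat HN.rows [(18, 27)] [] [] [] [] true 3 4 2 :=
  ⟨⟨6, [6, 2, 2, 5, 6, 1, 2, 1, 2, 0, 1, 0, 2, 2, 4, 1, 0, 0, 3, 0, 1, 0, 1, 0, 0, 0, 2, 1, 4, 0, 2, 3, 0, 0, 0, 0,
  1, 0, 0, 1, 3, 0, 0], [0, 5, 16, 5, 0, 16, 5, 36, 5, 33, 33, 36, 5, 16, 6, 16, 41, 41, 5, 33, 16, 36, 36, 33, 36,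
  33, 5, 16, 6, 33, 5, 31, 33, 36, 41, 36, 16, 33, 33, 16, 31, 33, 41], [(0, 4, [], .van 18 0 2 1 [5, 7, 13, 22, 23,
  26, 32, 38, 39])]⟩, by decide +kernel⟩

theorem okHN_5 : Ok HN.dat HN.rows [(38, 250)] [] [] [] [] true 5 5 3 :=
  ⟨⟨6, [6, 3, 2, 1, 1, 1, 1, 1, 4, 6, 6, 6, 1, 0, 1, 1, 1, 0, 0, 4, 2, 4, 5, 5, 5, 0, 0, 0, 0, 0, 1, 5, 1, 3, 1, 5,
  0, 0, 3, 1, 5, 1, 1], [0, 17, 29, 17, 29, 29, 17, 37, 17, 0, 0, 0, 17, 29, 37, 17, 17, 37, 29, 14, 17, 14, 2, 2, 2,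
  29, 37, 29, 37, 29, 17, 2, 32, 14, 17, 5, 29, 29, 2, 17, 2, 17, 17], [(0, 5, [], .kill 38 0)]⟩, by decide +kernel⟩

theorem okTh_3 : Ok Th.D (mkRows Th.rowA Th.rowB) [(16, 972)] [] [] [] [] true 3 7 5 :=
  ⟨⟨10, [10, 4, 7, 10, 10, 3, 1, 1, 8, 3, 7, 1, 1, 1, 10, 10, 5, 1, 2, 6, 7, 1, 0, 7, 9, 9, 0, 0, 1, 1, 7, 10, 10, 0,
  7, 0, 8, 8, 1], [0, 12, 12, 0, 0, 12, 23, 23, 16, 12, 27, 12, 12, 23, 0, 0, 10, 23, 12, 27, 16, 12, 23, 16, 9, 9,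
  29, 23, 12, 12, 22, 0, 0, 23, 16, 23, 10, 10, 12], [(0, 7, [], .kill 16 0)]⟩, by decide +kernel⟩

theorem okFi23_3 : Ok F23.D F23.R [(4, 1889568), (33, 34992), (34, 8748), (35, 104976), (91, 559872)] [] [] [] [] true 3 7 5 :=
  ⟨⟨13, [13, 5, 6, 9, 10, 12, 13, 10, 2, 2, 4, 4, 2, 11, 10, 10, 8, 8, 8, 8, 4, 8, 10, 9, 10, 5, 7, 1, 1, 1, 1, 13,
  12, 7, 7, 8, 1, 1, 1, 0, 8, 6, 7, 7, 7, 3, 2, 10, 6, 7, 2, 7, 7, 3, 7, 1, 0, 1, 2, 6, 0, 0, 12, 10, 11, 11, 10, 11,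
  11, 11, 0, 1, 1, 0, 0, 1, 1, 1, 5, 1, 13, 1, 1, 1, 6, 0, 10, 10, 1, 1, 1, 7], [0, 60, 60, 60, 19, 19, 0, 60, 81,
  60, 81, 60, 60, 5, 32, 32, 19, 19, 19, 19, 60, 19, 19, 19, 19, 60, 60, 60, 81, 60, 60, 0, 5, 19, 5, 5, 81, 60, 60,
  81, 62, 19, 19, 19, 19, 60, 60, 25, 54, 19, 60, 19, 54, 60, 19, 60, 81, 60, 60, 19, 81, 81, 2, 5, 5, 5, 5, 5, 43,
  25, 81, 60, 60, 81, 81, 71, 60, 60, 54, 60, 0, 60, 60, 60, 19, 81, 5, 25, 60, 60, 60, 53], [(0, 13, [], .neg 2 2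
  57), (3, 8, [1], .cong 1 [(1, 1)] [(3, 240), (22, 3)])]⟩, by decide +kernel⟩

theorem okSuz_3 : Ok Sz.dat (mkRows Sz.rowA Sz.rowB) [(4, 34992), (20, 54), (21, 18)] [] [] [1] [] false 3 4 2 :=
  ⟨⟨7, [7, 4, 2, 5, 7, 1, 4, 2, 4, 1, 1, 1, 1, 1, 1, 2, 2, 1, 2, 2, 3, 2, 2, 2, 1, 1, 4, 1, 3, 1, 1, 2, 6, 1, 2, 2,
  7], [0, 11, 11, 6, 0, 11, 10, 11, 6, 11, 11, 11, 11, 11, 11, 10, 30, 11, 10, 10, 3, 1, 10, 10, 11, 11, 6, 11, 11,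
  11, 11, 10, 6, 11, 10, 11, 0], [(0, 7, [], .big 20 0 2 1 10), (1, 4, [], .kill 21 0)]⟩, by decide +kernel⟩

end Cfsg.Agent.KM.Mu.Sp
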