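import Cfsg.Agent.KM.Mu.Sp.Gen
import Cfsg.Agent.M22.BDataOfBlocks

/-!
# S4576, the sporadic rows: the engine for tables (helper46)

* `St` : the configuration with numerical bounds; `St.good`, `St.kill`, `St.cong`, `St.neg`, `St.big`, `St.van`;
* `chk`, `mem_of_chk` : the type of `g` lies in a given list; `dfB`, `Ch.bounds` : bounds from the degrees.
-/

set_option autoImplicit false
set_option linter.unusedSectionVars false

namespace Cfsg.Agent.KM.Mu.Sp

open Cfsg Subgroup Cfsg.Agent.BHZ.Spor Cfsg.Agent.TAB.Eng Cfsg.Agent.TAB.Use Cfsg.Agent.KM.Sp Cfsg.Agent.Characters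

variable {G : Type} [Group G] [Finite G] {D : Dat} {T : TD G D} {R : TAB.Use.Rows} {p : ℕ} [hp : Fact p.Prime]
  {X : List (ℕ × ℕ)} {U CS RT : List ℕ} {a d w : ℕ} {g : G} {P W : Subgroup G}

/-- `p ^ d` does not divide the orders of the centralisers -/
def ltB (D : Dat) (U : List ℕ) (d i : ℕ) : Bool := (D.pw i).any fun q => decide (U.getD (D.pwf i q.1) 0 < d)

/-- the type does not occur in `W ⟨g⟩` -/
def badB (D : Dat) (U CS : List ℕ) (d i : ℕ) : Bool :=
  (D.pw i).any fun q => decide (U.getD (D.pwf i q.1) 0 < d) || CS.contains (D.pwf i q.1)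

/-- the elements of the types in the list generate conjugate subgroups -/
def RatL (T : TD G D) (RT : List ℕ) : Prop := ∀ t ∈ RT, ∀ g h : G, T.ty g = t → T.ty h = t → ∃ k : ℕ, IsConj (g ^ k) h

/-- the configuration with bounds -/
structure St (T : TD G D) (U CS : List ℕ) (p d w : ℕ) (g : G) (P W : Subgroup G) : Prop where
  cf : Cf p g P W
  ub : ∀ (x : G) (e : ℕ), p ^ e ∣ Nat.card (centralizer ({x} : Set G)) → ¬ U.getD (T.ty x) 0 < e
  hd : p ^ d ∣ Nat.card P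
  hw : p ^ w ∣ Nat.card W
  cs : ∀ s ∈ W, T.ty s ∉ CS
  co : ∀ i ∈ CS, D.ord i = p

omit hp in
theorem card_dvd_pow (x : G) (k : ℕ) :
    Nat.card (centralizer ({x} : Set G)) ∣ Nat.card (centralizer ({x ^ k} : Set G)) :=
  card_dvd_of_comm fun _ hc => Commute.pow_right (mem_centralizer_singleton_iff.1 hc) k

omit hp in
theorem not_dvd_of_lt (ub : ∀ (x : G) (e : ℕ), p ^ e ∣ Nat.card (centralizer ({x} : Set G)) → ¬ U.getD (T.ty x) 0 < e)
    {x : G} {e : ℕ} (h : ltB D U e (T.ty x) = true) : ¬ p ^ e ∣ Nat.card (centralizer ({x} : Set G)) := fun h1 => by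
  obtain ⟨q, -, h2⟩ := List.any_eq_true.1 h
  rw [← T.pow] at h2
  exact ub _ _ (h1.trans (card_dvd_pow x _)) (of_decide_eq_true h2)

theorem St.good (S : St T U CS p d w g P W) {s r : G} (hs : s ∈ W) (hr : r ∈ zpowers g) :
    ¬ badB D U CS d (T.ty (s * r)) = true := fun h => by
  have h0 : ∀ x ∈ P, Commute x r := fun x hx => (commute_of_mem_zpowers (S.cf.cg x hx).symm hr).symm
  obtain ⟨q, -, h1⟩ := List.any_eq_true.1 h
  rw [← T.pow, Bool.or_eq_true, List.contains_iff_mem] at h1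
  rcases h1 with h1 | h1
  · exact S.ub _ _ (S.hd.trans (card_dvd_of_comm fun x hx =>
      ((S.cf.cen s hs x hx).symm.mul_right (h0 x hx)).pow_right _)) (of_decide_eq_true h1)
  · have h2 := h0 s (S.cf.le hs)
    have h3 := pow_orderOf_eq_one ((s * r) ^ q.1)
    rw [T.ord, S.co _ h1, ← pow_mul, h2.mul_pow] at h3
    obtain ⟨k, hk⟩ := pelt_of_mem S.cf.pg (S.cf.le (inv_mem (pow_mem hs (q.1 * p))))
    have h4 : ¬ p ∣ orderOf (r ^ q.1) := fun e =>
      S.cf.reg (e.trans ((orderOf_pow_dvd _).trans (orderOf_dvd_of_mem_zpowers hr)))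
    rw [h2.mul_pow, eq_one_of_reg h4 (k := k + 1) (by
      rw [pow_succ', pow_mul, ← pow_mul r, eq_inv_of_mul_eq_one_right h3, hk]), mul_one] at h1
    exact S.cs _ (pow_mem hs _) h1

/-- the type `x` lies over the type `s` -/
def ovB (D : Dat) (RT : List ℕ) (p a s x : ℕ) : Bool :=
  decide (x < D.n) && D.cnt x != 0 && D.pwf x (p ^ a) == s && (D.ord s == 1 || RT.contains s)

theorem St.over (S : St T U CS p d w g P W) (hm : T.Mass) (hR : RatL T RT) {x : ℕ}
    (h : ovB D RT p a (T.ty g) x = true) : ∃ y, T.ty y = x ∧ ∀ j, (∃ s ∈ W, ∃ r ∈ zpowers g,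
      T.ty (s * r) = D.pwf x (p ^ j)) ∨ p ^ (j + 1) * Nat.card W ∣ Nat.card (centralizer ({y} : Set G)) := by
  simp only [ovB, Bool.and_eq_true, decide_eq_true_eq, bne_iff_ne, ne_eq, beq_iff_eq, Bool.or_eq_true,
    List.contains_iff_mem] at h
  obtain ⟨⟨⟨h1, h2⟩, h3⟩, h4⟩ := h
  rw [← hm.2 x h1] at h2
  obtain ⟨⟨y, rfl⟩⟩ := (Nat.card_ne_zero.1 h2).1
  rw [← T.pow] at h3
  have h5 : orderOf g = orderOf (y ^ p ^ a) := by rw [T.ord, T.ord, h3]
  obtain ⟨k, hk⟩ : ∃ k : ℕ, IsConj (g ^ k) (y ^ p ^ a) := h4.elim (fun h6 => ⟨0, by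
    rw [← T.ord, h5, orderOf_eq_one_iff] at h6
    rw [h6, pow_zero]⟩) fun h6 => hR _ h6 _ _ rfl h3
  refine ⟨y, rfl, fun j => (S.cf.killer h5 hk j).imp_left ?_⟩
  rintro ⟨s, hs, r, hr, h6⟩
  obtain ⟨c, hc⟩ := isConj_iff.1 h6
  exact ⟨s, hs, r, hr, by rw [← hc, T.conj, T.pow]⟩

theorem St.kill (S : St T U CS p d w g P W) (hm : T.Mass) (hR : RatL T RT) {x j m : ℕ}
    (h : ovB D RT p a (T.ty g) x = true) (h1 : badB D U CS d (D.pwf x (p ^ j)) = true)
    (h2 : ltB D U (j + 1 + m) x = true) : ¬ p ^ m ∣ Nat.card W := fun h3 => by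
  obtain ⟨y, rfl, h4⟩ := S.over hm hR h
  rcases h4 j with ⟨s, hs, r, hr, h5⟩ | h5
  · exact S.good hs hr (h5 ▸ h1)
  · exact not_dvd_of_lt S.ub h2 (pow_add p _ _ ▸ (Nat.mul_dvd_mul_left _ h3).trans h5)

theorem St.elt (S : St T U CS p d w 1 P W) (hm : T.Mass) (hR : RatL T RT) {x j : ℕ}
    (h : ovB D RT p a (T.ty 1) x = true) (h2 : ltB D U (j + 1 + w) x = true) :
    ∃ s ∈ W, T.ty s = D.pwf x (p ^ j) := by
  obtain ⟨y, rfl, h4⟩ := S.over hm hR h
  rcases h4 j with ⟨s, hs, r, hr, h5⟩ | h5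
  · rw [zpowers_one_eq_bot, mem_bot] at hr
    exact ⟨s, hs, by rwa [hr, mul_one] at h5⟩
  · exact absurd (pow_add p _ _ ▸ (Nat.mul_dvd_mul_left _ S.hw).trans h5) (not_dvd_of_lt S.ub h2)

theorem fac_le_of {m : ℕ} (h : ¬ p ^ (m + 1) ∣ Nat.card W) :
    (Nat.card W).factorization p ≤ m :=
  not_lt.1 fun h1 => h ((hp.out.pow_dvd_iff_le_factorization Nat.card_pos.ne').2 h1)

/-- the check of the congruence -/
def congB (D : Dat) (R : TAB.Use.Rows) (U CS : List ℕ) (p a d w t : ℕ) (c : List (ℤ × ℕ)) (v : List (ℕ × ℕ)) : Bool :=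
  (c.all fun x => (rl R x.2).1.all fun z => decide (z.1 < R.n)) &&
    (psi R c t - look v (D.pwf t p)) % (p ^ w : ℕ) != 0 &&
    (List.range D.n).all fun i => D.ord i % p != 0 || D.pwf i (p ^ a) != D.pwf t (p ^ a) ||
      (psi R c i - look v (D.pwf i p)) % (p ^ w : ℕ) == 0 || badB D U CS d i

theorem St.cong (S : St T U CS p d w g P W) (H : Hy T R X) (ha : D.N % p ^ (a + 1) ≠ 0) {k : ℕ} {c : List (ℤ × ℕ)}
    {v : List (ℕ × ℕ)} (h : congB D R U CS p a d w (T.ty (g ^ k)) c v = true) : False := by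
  have hz : g ^ k ∈ zpowers g := pow_mem (mem_zpowers g) k
  generalize g ^ k = t at h hz
  have ht : ¬ p ∣ orderOf t := fun e => S.cf.reg (e.trans (orderOf_dvd_of_mem_zpowers hz))
  have hc : ∀ x ∈ W, Commute x t := fun x hx => (commute_of_mem_zpowers (S.cf.cg x (S.cf.le hx)).symm hz).symm
  have hab : ∀ x ∈ W, ∀ y ∈ W, Commute x y := fun x hx y hy => S.cf.cen x hx y (S.cf.le hy)
  simp only [congB, Bool.or_eq_true, decide_eq_true_eq, Bool.and_eq_true, List.all_eq_true, bne_iff_ne, ne_eq,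
    List.mem_range, beq_iff_eq] at h
  obtain ⟨⟨h1, h2⟩, h3⟩ := h
  obtain ⟨y, hyW, hy⟩ := S.cf.exists_ord
  let F : Subgroup G := W ⊔ zpowers t
  have hF1 : ∀ x ∈ W, ∀ k ∈ F, Commute k x := fun x hx =>
    commute_of_mem_sup (fun z hz => hab z hz x hx) fun z hz => commute_of_mem_zpowers (hc x hx).symm hz
  have hF2 : ∀ k ∈ F, Commute k t := commute_of_mem_sup hc fun z hz => commute_of_mem_zpowers (Commute.refl t) hz
  have hF : ∀ x k : F, x * k = k * x := fun x k => Subtype.ext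
    (commute_of_mem_sup (fun z hz => (hF1 z hz k k.2).symm)
      (fun z hz => commute_of_mem_zpowers (hF2 k k.2).symm hz) x x.2)
  have hEF : W ≤ F := le_sup_left
  have h4 := key hF (W.subgroupOf F) ⟨t, mem_sup_right (mem_zpowers t)⟩ (y := ⟨y, hEF hyW⟩) hyW
    (fun h0 => hp.out.ne_one (by rw [← hy, show y = 1 from congrArg Subtype.val h0, orderOf_one]))
    (w := fun x => psi R c (T.ty x)) (c := fun x => look v (D.pwf (T.ty x) p)) ((virt_psi H.tab h1).on F) (fun q => ?_)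
    (m := p ^ w) (by rw [Nat.card_congr (subgroupOfEquivOfLe hEF).toEquiv]; exact S.hw) (fun q hq hq1 => ?_)
  · exact h2 (Int.emod_eq_zero_of_dvd h4)
  · show ((look v (D.pwf (T.ty (t * (y * q))) p) : ℕ) : ℤ) = look v (D.pwf (T.ty (t * q)) p)
    have h5 : Commute y q := (hF1 y hyW q q.2).symm
    rw [← T.pow, ← T.pow, ((hc y hyW).symm.mul_right (hF2 q q.2).symm).mul_pow, h5.mul_pow, ← hy,
      pow_orderOf_eq_one, one_mul, (hF2 q q.2).symm.mul_pow]
  · have hq' : (q : G) ∈ W := hq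
    have h5 : Commute t q := (hc q hq').symm
    obtain ⟨k, hk⟩ := (IsPGroup.iff_orderOf.1 S.cf.pg) ⟨q, S.cf.le hq'⟩
    rw [Subgroup.orderOf_mk] at hk
    show ((p ^ w : ℕ) : ℤ) ∣ psi R c (T.ty (t * q)) - look v (D.pwf (T.ty (t * q)) p)
    rcases h3 _ (T.lt (t * q)) with ((h6 | h6) | h6) | h6
    · refine absurd ?_ h6
      rw [← T.ord, h5.orderOf_mul_eq_mul_orderOf_of_coprime
        (hk ▸ ((Nat.Prime.coprime_iff_not_dvd hp.out).2 ht).symm.pow_right k), hk]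
      refine Nat.mod_eq_zero_of_dvd (Dvd.dvd.mul_left (dvd_pow_self p fun h0 => hq1 (Subtype.ext ?_)) _)
      exact orderOf_eq_one_iff.1 (by rw [hk, h0, pow_zero])
    · refine absurd ?_ h6
      have h7 : k ≤ a := by
        by_contra h8
        exact ha (Nat.mod_eq_zero_of_dvd ((pow_dvd_pow p (by omega)).trans (H.mass.1 ▸ hk ▸ orderOf_dvd_natCard (q : G))))
      rw [← T.pow, ← T.pow, h5.mul_pow, (orderOf_dvd_iff_pow_eq_one (x := (q : G))).1 (hk ▸ pow_dvd_pow p h7), mul_one]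
    · exact Int.dvd_of_emod_eq_zero h6
    · exact absurd (h5.eq ▸ h6) (S.good hq' hz)

/-- the relation `b` is the row `j` -/
def rowB (R : TAB.Use.Rows) (b j : ℕ) : Bool := decide ((rl R b).1 = [(j, 1)]) && decide (j < R.n)

omit [Finite G] hp in
theorem row_val {χ : ℕ → G → ℂ} (hR : Rel T R χ) {b j : ℕ} (h : (rl R b).1 = [(j, 1)]) (x : G) :
    χ j x = (((rl R b).2.getD (T.ty x) 0 : ℤ) : ℂ) := by
  have h3 := rel_rl hR b x
  rw [h] at h3
  simpa only [List.map_cons, Int.cast_one, one_mul, List.map_nil, List.sum_cons, List.sum_nil, add_zero] using h3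

/-- the check of the sign -/
def negB (D : Dat) (R : TAB.Use.Rows) (U CS : List ℕ) (p a d w b j c : ℕ) : Bool :=
  rowB R b j && (List.range D.n).all fun i =>
    if D.ord i = 1 then decide ((rl R b).2.getD i 0 + c < c * (p ^ w : ℕ))
    else p ^ a % D.ord i != 0 || decide ((rl R b).2.getD i 0 + c ≤ 0) || badB D U CS d i

theorem St.neg (S : St T U CS p d w g P W) (H : Hy T R X) (ha : D.N % p ^ (a + 1) ≠ 0) {b j c : ℕ}
    (h : negB D R U CS p a d w b j c = true) : False := by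
  classical
  simp only [negB, rowB, Bool.and_eq_true, decide_eq_true_eq, List.all_eq_true, List.mem_range] at h
  obtain ⟨⟨h1, h2⟩, h3⟩ := h
  obtain ⟨χ, hE, hR⟩ := H.tab
  have := Fintype.ofFinite W
  obtain ⟨n, hn⟩ := M22.BDataOfBlocks.exists_sum_eq (Core.isIrr_isCharacter (hE.irr j h2)) W
  simp only [row_val hR h1] at hn
  have h4 : ∑ x : W, (rl R b).2.getD (T.ty x) 0 = (Nat.card W : ℤ) * n := by exact_mod_cast hn
  have h5 : ∑ x : W, ((rl R b).2.getD (T.ty x) 0 + c) ≤ (rl R b).2.getD (T.ty (1 : W)) 0 + c := by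
    rw [← Finset.add_sum_erase _ _ (Finset.mem_univ 1), add_le_iff_nonpos_right]
    refine Finset.sum_nonpos fun x hx => ?_
    have h6 := h3 _ (T.lt x)
    rw [if_neg fun e => (Finset.mem_erase.1 hx).1 (Subtype.ext (orderOf_eq_one_iff.1 ((T.ord _).trans e)))] at h6
    simp only [Bool.or_eq_true, bne_iff_ne, ne_eq, decide_eq_true_eq] at h6
    rcases h6 with (h6 | h6) | h6
    · obtain ⟨k, hk⟩ := (IsPGroup.iff_orderOf.1 S.cf.pg) ⟨x, S.cf.le x.2⟩
      rw [Subgroup.orderOf_mk] at hk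
      refine absurd (Nat.mod_eq_zero_of_dvd (T.ord _ ▸ hk ▸ pow_dvd_pow p (not_lt.1 fun h8 => ha ?_))) h6
      exact Nat.mod_eq_zero_of_dvd ((pow_dvd_pow p h8).trans (H.mass.1 ▸ hk ▸ orderOf_dvd_natCard (x : G)))
    · exact h6
    · exact absurd ((mul_one (x : G)).symm ▸ h6) (S.good x.2 (one_mem _))
  have h6 := h3 _ (T.lt (1 : W))
  rw [if_pos (by rw [← T.ord]; exact orderOf_one), decide_eq_true_eq] at h6
  rw [Finset.sum_add_distrib, h4, Finset.sum_const, Finset.card_univ, ← Nat.card_eq_fintype_card, nsmul_eq_mul] at h5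
  have h7 : ((p ^ w : ℕ) : ℤ) ≤ Nat.card W := by exact_mod_cast Nat.le_of_dvd Nat.card_pos S.hw
  nlinarith [Int.natCast_nonneg n, Int.natCast_nonneg c, Int.natCast_nonneg (Nat.card W)]

theorem St.big (S : St T U CS p d w 1 P W) (H : Hy T R X) {m b : ℕ} (h1 : (Nat.card W).factorization p ≤ m) {s : G}
    (hs : s ∈ W) (h2 : D.ord (T.ty s) ≠ 1) (h3 : cbd D R X (T.ty s) b ≠ 0)
    (h4 : p ^ (2 * m) * cbd D R X (T.ty s) b < p ^ (2 * d)) : False := by
  have h5 := S.cf.bnd rfl s hs fun e => h2 (by rw [← T.ord, e, orderOf_one])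
  refine absurd (h4.trans_le ?_) (not_lt.2 (h5.trans (Nat.mul_le_mul ?_
    (Nat.le_of_dvd (Nat.pos_of_ne_zero h3) (card_dvd_cbd H s b)))))
  · rw [mul_comm, pow_mul]
    exact Nat.pow_le_pow_left (Nat.le_of_dvd Nat.card_pos S.hd) 2
  · rw [pow_fac (S.cf.pg.to_le S.cf.le), ← pow_mul]
    exact Nat.pow_le_pow_right hp.out.pos (by omega)

theorem fac_eq (hm : T.Mass) (ha : D.N % p ^ (a + 1) ≠ 0) (ha' : D.N % p ^ a = 0) : (Nat.card G).factorization p = a := by
  have h1 := (hp.out.pow_dvd_iff_le_factorization (Nat.card_pos (α := G)).ne').1 (hm.1 ▸ Nat.dvd_of_mod_eq_zero ha')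
  exact le_antisymm (not_lt.1 fun h => ha (Nat.mod_eq_zero_of_dvd
    (hm.1 ▸ (hp.out.pow_dvd_iff_le_factorization (Nat.card_pos (α := G)).ne').2 h))) h1

theorem mod_iff {ψ : G → ℂ} (h : IsIrrCharacter G ψ) (k : ℕ) :
    charDegree ψ % p ^ k = 0 ↔ k ≤ (charDegree ψ).factorization p :=
  (Nat.dvd_iff_mod_eq_zero ..).symm.trans (hp.out.pow_dvd_iff_le_factorization (Blocks.Basic.charDegree_pos h).ne')

/-- the characters of small defect vanish on the type `i` -/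
def vanB (R : TAB.Use.Rows) (p a m i : ℕ) (L : List ℕ) : Bool :=
  (List.range R.n).all fun j => R.d j % p ^ (a - m) != 0 || R.d j % p ^ (a - 1) == 0 ||
    L.any fun b => rowB R b j && (rl R b).2.getD i 0 == 0

theorem Ch.van (C : Ch p 1 P W) (hT : Tab T R) (ha : (Nat.card G).factorization p = a) {m : ℕ}
    (h1 : (Nat.card W).factorization p ≤ m) {s : G} (hs : s ∈ W) {L : List ℕ} (h : vanB R p a m (T.ty s) L = true) :
    False := by
  obtain ⟨χ, hE, hR⟩ := hT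
  obtain ⟨ψ, h2, h3, h4, h5⟩ := C.small
  obtain ⟨j, hj, rfl⟩ := hE.all ψ h2
  simp only [vanB, rowB, List.all_eq_true, List.mem_range, Bool.or_eq_true, bne_iff_ne, ne_eq, beq_iff_eq,
    List.any_eq_true, Bool.and_eq_true, decide_eq_true_eq] at h
  have h6 := h j hj
  rw [← hE.charDegree_eq hj, mod_iff h2, mod_iff h2] at h6
  rcases h6 with (h6 | h6) | ⟨b, -, ⟨h6, -⟩, h7⟩
  · omega
  · omega
  · exact h5 s hs (by rw [mul_one, row_val hR h6, h7, Int.cast_zero])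

/-- the defects of the characters -/
def dfB (D : Dat) (R : TAB.Use.Rows) (p a d w : ℕ) : Bool :=
  D.N % p ^ (a + 1) != 0 && D.N % p ^ a == 0 && decide (d ≤ a) && R.deg.all fun n =>
    (n % p ^ (a - 1) == 0 || n % p ^ (a - w + 1) != 0) && (n % p ^ (a - w - 1) == 0 || n % p ^ (a - d + 1) != 0)

theorem Ch.bounds (C : Ch p g P W) (F : Cf p g P W) (hm : T.Mass) (hT : Tab T R) (h : dfB D R p a d w = true) :
    p ^ d ∣ Nat.card P ∧ p ^ w ∣ Nat.card W := by
  obtain ⟨χ, hE, hR⟩ := hT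
  simp only [dfB, List.all_eq_true, Bool.or_eq_true, bne_iff_ne, ne_eq, beq_iff_eq, Bool.and_eq_true,
    decide_eq_true_eq] at h
  obtain ⟨⟨⟨h1, h2⟩, h0⟩, h3⟩ := h
  have ha := fac_eq hm h1 h2
  have h4 : ∀ ψ, IsIrrCharacter G ψ → charDegree ψ ∈ R.deg := fun ψ hψ => by
    obtain ⟨j, hj, rfl⟩ := hE.all ψ hψ
    rw [hE.charDegree_eq hj, Rows.d, List.getD_eq_getElem _ _ hj]
    exact List.getElem_mem hj
  obtain ⟨ψ, h5, h6, h7, -⟩ := C.small
  obtain ⟨φ, h8, h9⟩ := C.zero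
  have h10 := (h3 _ (h4 ψ h5)).1
  have h11 := (h3 _ (h4 φ h8)).2
  rw [mod_iff h5, mod_iff h5] at h10
  rw [mod_iff h8, mod_iff h8] at h11
  have h12 := fac_le (p := p) F.idx Nat.card_pos.ne'
  rw [Nat.factorization_mul (pow_ne_zero _ hp.out.ne_zero) Nat.card_pos.ne', Finsupp.add_apply,
    hp.out.factorization_pow, Finsupp.single_eq_same] at h12
  exact ⟨(hp.out.pow_dvd_iff_le_factorization Nat.card_pos.ne').2 (by omega),
    (hp.out.pow_dvd_iff_le_factorization Nat.card_pos.ne').2 (by omega)⟩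

theorem Cf.four (F : Cf p g P W) : p ^ 4 ∣ Nat.card P :=
  (pow_add p 2 2 ▸ Nat.mul_dvd_mul_left _ F.two).trans F.idx

/-- the methods -/
inductive Mt where
  | cong (k : ℕ) (c : List (ℤ × ℕ)) (v : List (ℕ × ℕ))
  | kill (x j : ℕ)
  | neg (b j c : ℕ)
  | big (x j m k b : ℕ)
  | van (x j m k : ℕ) (L : List ℕ)

/-- the check of a method; `ch` says that the characters are available -/
def mtB (D : Dat) (R : TAB.Use.Rows) (X : List (ℕ × ℕ)) (U CS RT : List ℕ) (ch : Bool) (p a d w s : ℕ) : Mt → Bool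
  | .cong k c v => congB D R U CS p a d w (D.pwf s k) c v
  | .kill x j => ovB D RT p a s x && badB D U CS d (D.pwf x (p ^ j)) && ltB D U (j + 1 + w) x
  | .neg b j c => negB D R U CS p a d w b j c
  | .big x j m k b => D.ord s == 1 && ovB D RT p a s x && badB D U CS d (D.pwf x (p ^ j)) &&
      ltB D U (j + 1 + (m + 1)) x && ltB D U (k + 1 + w) x && D.ord (D.pwf x (p ^ k)) != 1 &&
      cbd D R X (D.pwf x (p ^ k)) b != 0 && decide (p ^ (2 * m) * cbd D R X (D.pwf x (p ^ k)) b < p ^ (2 * d))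
  | .van x j m k L => ch && D.ord s == 1 && ovB D RT p a s x && badB D U CS d (D.pwf x (p ^ j)) &&
      ltB D U (j + 1 + (m + 1)) x && ltB D U (k + 1 + w) x && D.N % p ^ a == 0 && vanB R p a m (D.pwf x (p ^ k)) L

theorem mtB_realised : True := by have := @mtB.eq_def; trivial

theorem St.mt (S : St T U CS p d w g P W) (H : Hy T R X) (hR : RatL T RT) (ha : D.N % p ^ (a + 1) ≠ 0) {ch : Bool}
    (hc : ch = true → Ch p g P W) (m : Mt) (h : mtB D R X U CS RT ch p a d w (T.ty g) m = true) : False := by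
  cases m <;> simp only [mtB, Bool.and_eq_true, beq_iff_eq, bne_iff_ne, ne_eq, decide_eq_true_eq] at h
  · exact S.cong H ha (T.pow g _ ▸ h)
  · exact S.kill H.mass hR h.1.1 h.1.2 h.2 S.hw
  · exact S.neg H ha h
  · obtain ⟨⟨⟨⟨⟨⟨⟨h1, h2⟩, h3⟩, h4⟩, h5⟩, h6⟩, h7⟩, h8⟩ := h
    obtain rfl : g = 1 := orderOf_eq_one_iff.1 ((T.ord g).trans h1)
    obtain ⟨s, hs, h9⟩ := S.elt H.mass hR h2 h5
    rw [← h9] at h6 h7 h8
    exact S.big H (fac_le_of (S.kill H.mass hR h2 h3 h4)) hs h6 h7 h8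
  · obtain ⟨⟨⟨⟨⟨⟨⟨h0, h1⟩, h2⟩, h3⟩, h4⟩, h5⟩, h6⟩, h7⟩ := h
    obtain rfl : g = 1 := orderOf_eq_one_iff.1 ((T.ord g).trans h1)
    obtain ⟨s, hs, h9⟩ := S.elt H.mass hR h2 h5
    rw [← h9] at h7
    exact (hc h0).van H.tab (fac_eq H.mass ha h6) (fac_le_of (S.kill H.mass hR h2 h3 h4)) hs h7

/-- a certificate -/
structure Ce where
  a : ℕ
  U : List ℕ
  A : List ℕ
  E : List (ℕ × ℕ × List ℕ × Mt)

/-- **the check**; `C0` : types which do not occur in `W`; `C1` : the same for `g ≠ 1`; `EX` : the exceptions -/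
def chk (D : Dat) (R : TAB.Use.Rows) (X : List (ℕ × ℕ)) (C0 C1 RT EX : List ℕ) (ch : Bool) (p d w : ℕ) (C : Ce) : Bool :=
  D.N % p ^ (C.a + 1) != 0 && ubB D R X p C.U C.A && (C0 ++ C1).all (fun i => D.ord i == p) &&
    (List.range D.n).all fun s => D.ord s % p == 0 || ltB D C.U d s || EX.contains s || C.E.any fun e =>
      e.1 == s && (decide (e.2.1 ≤ d) || lbB D R X p C.a s e.2.1 e.2.2.1) &&
        mtB D R X C.U (if D.ord s = 1 then C0 else C0 ++ C1) RT ch p C.a e.2.1 w s e.2.2.2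

/-- there is a certificate -/
def Ok (D : Dat) (R : TAB.Use.Rows) (X : List (ℕ × ℕ)) (C0 C1 RT EX : List ℕ) (ch : Bool) (p d w : ℕ) : Prop :=
  ∃ C, chk D R X C0 C1 RT EX ch p d w C = true

theorem Ok.mem {C0 C1 EX : List ℕ} {ch : Bool} (h : Ok D R X C0 C1 RT EX ch p d w) (H : Hy T R X) (hR : RatL T RT)
    (F : Cf p g P W) (hc : ch = true → Ch p g P W) (hd : p ^ d ∣ Nat.card P) (hw : p ^ w ∣ Nat.card W)
    (h0 : ∀ s ∈ W, T.ty s ∉ C0) (h1 : g ≠ 1 → ∀ s ∈ W, T.ty s ∉ C1) : T.ty g ∈ EX := by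
  obtain ⟨C, h⟩ := h
  simp only [chk, Bool.or_eq_true, decide_eq_true_eq, Bool.and_eq_true, List.all_eq_true, bne_iff_ne, ne_eq,
    List.mem_range, beq_iff_eq, List.any_eq_true, List.contains_iff_mem] at h
  obtain ⟨⟨⟨h3, h4⟩, h5⟩, h6⟩ := h
  have ub := fun (x : G) (e : ℕ) => le_ub H h4 (g := x) (d := e)
  rcases h6 _ (T.lt g) with ((h7 | h7) | h7) | ⟨e, -, ⟨-, h7⟩, h8⟩
  · exact absurd (T.ord g ▸ Nat.dvd_of_mod_eq_zero h7) F.reg
  · exact absurd (hd.trans (card_dvd_of_comm F.cg)) (not_dvd_of_lt ub h7)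
  · exact h7
  obtain ⟨m, h9, h10⟩ := card_cent_eq F.pg F.cg F.mx
  refine (St.mt ⟨F, ub, h7.elim (fun h => (pow_dvd_pow p h).trans hd) fun h => dvd_of_lb H h F.pg h9 h10, hw,
    fun s hs => ?_, fun i hi => h5 i ?_⟩ H hR h3 hc _ h8).elim
  · split_ifs with h11
    · exact h0 s hs
    · exact fun h12 => (List.mem_append.1 h12).elim (h0 s hs)
        (h1 (fun e => h11 (by rw [← T.ord, e, orderOf_one])) s hs)
  · split_ifs at hi
    · exact List.mem_append_left _ hi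
    · exact hi

omit [Finite G] hp in
theorem RatL.nil : RatL T [] := fun _ h => absurd h List.not_mem_nil

omit [Finite G] hp in
theorem RatL.of_rat (h : TAB.ON.Rat T) (RT : List ℕ) : RatL T RT := fun _ _ g x h1 h2 => h g x (h1.trans h2.symm)

/-- the row from a check, any multiplier -/
theorem Ok.rrow {C0 C1 : List ℕ} (h : Ok D R X C0 C1 RT [] false p 4 2) (H : Hy T R X) (hR : RatL T RT)
    (h0 : ∀ s, T.ty s ∈ C0 → QF p s) (h1 : ∀ s, T.ty s ∈ C1 → Constr p s) : RRow p G :=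
  rrow_of_cf fun _ _ _ F => List.not_mem_nil (h.mem H hR F (fun e => absurd e Bool.false_ne_true) F.four F.two
    (fun s hs e => F.not_qf hs (h.elim fun C h => by
      simp only [chk, Bool.and_eq_true, List.all_eq_true, beq_iff_eq] at h
      exact (T.ord s).trans (h.1.2 _ (List.mem_append_left _ e))) (h0 s e))
    fun e s hs e' => e (F.eq_one hs (h1 s e')))

/-- the row from a check, trivial multiplier -/
theorem Ok.rrow_one {C0 C1 : List ℕ} (h : Ok D R X C0 C1 RT [] true p d w) (hZ : HasCyclicSchurMultiplier G 1)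
    (H : Hy T R X) (hR : RatL T RT) (a : ℕ) (hd : dfB D R p a d w = true)
    (h0 : ∀ s, T.ty s ∈ C0 → QF p s) (h1 : ∀ s, T.ty s ∈ C1 → Constr p s) : RRow p G :=
  rrow_of_ch hZ fun _ _ _ F C => List.not_mem_nil (h.mem H hR F (fun _ => C) (C.bounds F H.mass H.tab hd).1
    (C.bounds F H.mass H.tab hd).2 (fun s hs e => F.not_qf hs (h.elim fun C h => by
      simp only [chk, Bool.and_eq_true, List.all_eq_true, beq_iff_eq] at h
      exact (T.ord s).trans (h.1.2 _ (List.mem_append_left _ e))) (h0 s e))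
    fun e s hs e' => e (F.eq_one hs (h1 s e')))

end Cfsg.Agent.KM.Mu.Sp
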