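import Cfsg.Agent.KM.Mu.Rows
import Cfsg.Agent.RC.Blk
import Cfsg.Agent.KM.Sp.Eng
import Cfsg.Agent.VAN.Iface

/-!
# S4576, the sporadic rows: the local configuration (helper46)

* `Lc p g P` : `P` is a maximal `p`-subgroup of `C(g)` which contains the `p`-subgroups normalised by `P C(P)`;
* `Cf p g P W` : the images `P`, `W` of a defect group and of its centre when Robinson's inequality fails;
* `Ch p g P W` : the characters, for a trivial multiplier;
* `rrow_of_cf`, `rrow_of_ch`.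
-/

set_option autoImplicit false
set_option linter.unusedSectionVars false

namespace Cfsg.Agent.KM.Mu.Sp

open Cfsg Subgroup Cfsg.Agent.BHZ.Spor Cfsg.Agent.Blocks Cfsg.Agent.RC

/-- the local data of a defect group -/
structure Lc (p : ℕ) {S : Type} [Group S] (g : S) (P : Subgroup S) : Prop where
  pg : IsPGroup p P
  reg : ¬ p ∣ orderOf g
  cg : ∀ d ∈ P, Commute d g
  mx : ∀ Q : Subgroup S, IsPGroup p Q → P ≤ Q → (∀ k ∈ Q, Commute k g) → Q ≤ P
  core : ∀ U : Subgroup S, IsPGroup p U → (∀ x ∈ P, ∀ u ∈ U, x * u * x⁻¹ ∈ U) →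
    (∀ x : S, (∀ d ∈ P, Commute d x) → ∀ u ∈ U, x * u * x⁻¹ ∈ U) → U ≤ P

/-- the configuration -/
structure Cf (p : ℕ) {S : Type} [Group S] (g : S) (P W : Subgroup S) : Prop extends Lc p g P where
  le : W ≤ P
  cen : ∀ w ∈ W, ∀ d ∈ P, Commute w d
  two : p ^ 2 ∣ Nat.card W
  idx : p ^ 2 * Nat.card W ∣ Nat.card P
  nrm : ∀ n : S, (∀ d ∈ P, n * d * n⁻¹ ∈ P) → ∀ w ∈ W, n * w * n⁻¹ ∈ W
  bnd : g = 1 → ∀ s ∈ W, s ≠ 1 → Nat.card P ^ 2 ≤ Nat.card W ^ 2 * Nat.card (centralizer ({s} : Set S))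

/-- the characters -/
structure Ch (p : ℕ) {S : Type} [Group S] (g : S) (P W : Subgroup S) : Prop where
  small : ∃ ψ : S → ℂ, IsIrrCharacter S ψ ∧ (charDegree ψ).factorization p + 2 ≤ (Nat.card S).factorization p ∧
    (Nat.card S).factorization p ≤ (charDegree ψ).factorization p + (Nat.card W).factorization p ∧
    ∀ s ∈ W, ψ (s * g) ≠ 0
  zero : ∃ ψ : S → ℂ, IsIrrCharacter S ψ ∧
    (charDegree ψ).factorization p + (Nat.card P).factorization p = (Nat.card S).factorization p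

variable {p : ℕ} [hp : Fact p.Prime] {S T : Type} [Group S] [Finite S] [Group T] {g : S} {P W : Subgroup S}

theorem lc_of_block {M : Ideal AlgInt} (hM : IsPModular p M) {B : Set (IrrCharacter S)} (hB : IsPBlock M B)
    (hD : IsDefectGroup p M B P) (hg : ¬ p ∣ orderOf g) (hs : Basic.IsSylowCentralizer p g P) : Lc p g P := by
  obtain ⟨hDp, h0, hmax⟩ := (Basic.isSylowCentralizer_iff p g P).1 hs
  have hgD : ∀ d ∈ P, Commute d g := fun d hd => mem_centralizer_singleton_iff.1 (h0 hd)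
  have hmx : ∀ Q : Subgroup S, IsPGroup p Q → P ≤ Q → (∀ k ∈ Q, Commute k g) → Q ≤ P := fun Q hQ hle hc =>
    (hmax Q hQ (fun k hk => mem_centralizer_singleton_iff.2 (hc k hk)) hle).le
  refine ⟨hDp, hg, hgD, hmx, fun U hU h1 h2 => ?_⟩
  let C : Subgroup S := centralizer (P : Set S)
  have hW : (pCore p C).map C.subtype ≤ P := by
    have := Lib.Cores.pCore_characteristic (G := C) p
    refine BHZ.Nil.defect_rad hM hB hD ((Lib.Cores.pCore_isPGroup p).map _) (fun n hn => ?_)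
      ((map_subtype_le _).trans (Subgroup.centralizer_le_normalizer _))
    have hnC : n ∈ normalizer (C : Set S) := H644.mem_normalizer_centralizer hn
    refine mem_normalizer_fintype ?_
    rintro _ ⟨w, hw, rfl⟩
    have h3 := (characteristic_iff_map_le.1 this) (C.normalizerMonoidHom ⟨n, hnC⟩) ⟨w, hw, rfl⟩
    exact ⟨_, h3, rfl⟩
  have hUC : U ⊓ C ≤ P := by
    refine le_trans ?_ hW
    have h3 : U.subgroupOf C ≤ pCore p C := Lib.Cores.le_pCore
      ⟨fun u hu c => h2 c (fun d hd => mem_centralizer_iff.1 c.2 d hd) u hu⟩ hU.comap_subtype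
    have h4 := map_mono (f := C.subtype) h3
    rwa [subgroupOf_map_subtype] at h4
  have h5 := S0028.result p P (zpowers g) U hDp (by
      rw [Nat.card_zpowers]
      exact ((Nat.Prime.coprime_iff_not_dvd hp.out).2 hg).symm) hU
    (fun d hd => mem_centralizer_iff.2 fun w hw => commute_of_mem_zpowers (hgD d hd).symm hw)
    (fun d hd => mem_normalizer_fintype (h1 d hd))
    (zpowers_le.2 (mem_normalizer_fintype (h2 g hgD)))
    (fun u hu => mem_centralizer_iff.2 fun w hw => commute_of_mem_zpowers (hgD u (hUC hu)).symm hw)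
  exact le_sup_right.trans (hmx (P ⊔ U) (isPGroup_sup hDp hU h1) le_sup_left
    (commute_of_mem_sup hgD fun u hu => mem_centralizer_iff.1 (h5 (mem_zpowers g)) u hu))

/-- passing to a central quotient -/
theorem Lc.quot (h : Lc p g P) (φ : S →* T) (hs : Function.Surjective φ) (hc : φ.ker ≤ center S) :
    Lc p (φ g) (P.map φ) := by
  have hmap : ∀ (U : Subgroup T), IsPGroup p U → ∀ u ∈ U, ∃ a, φ a = u ∧ ∃ k : ℕ, a ^ p ^ k = 1 := by
    intro U hU u hu
    obtain ⟨k, hk⟩ := pelt_of_mem hU hu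
    exact exists_p_lift hs hk
  have hconj : ∀ (x a : S), (∃ k : ℕ, a ^ p ^ k = 1) → ∃ k : ℕ, (x * a * x⁻¹) ^ p ^ k = 1 := by
    rintro x a ⟨k, hk⟩
    exact ⟨k, by rw [conj_pow, hk]; simp⟩
  refine ⟨h.pg.map φ, reg_map' h.reg, ?_, fun Q hQ hle hcQ => ?_, fun U hU h1 h2 => ?_⟩
  · rintro _ ⟨d, hd, rfl⟩
    exact (h.cg d hd).map φ
  · obtain ⟨P', hP', hPm⟩ := exists_plift (p := p) hc hQ
    have h1 := h.mx P' hP' (fun d hd => (hPm d).2 ⟨hle ⟨d, hd, rfl⟩, pelt_of_mem h.pg hd⟩) fun k hk => by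
      obtain ⟨h2, j, hj⟩ := (hPm k).1 hk
      exact commute_p_reg hc (hcQ _ h2) hj h.reg
    intro u hu
    obtain ⟨a, rfl, ha⟩ := hmap Q hQ u hu
    exact ⟨a, h1 ((hPm a).2 ⟨hu, ha⟩), rfl⟩
  · obtain ⟨U', hU', hUm⟩ := exists_plift (p := p) hc hU
    have h3 := h.core U' hU' (fun x hx u hu => (hUm _).2 ⟨by
        rw [map_mul, map_mul, map_inv]
        exact h1 _ ⟨x, hx, rfl⟩ _ ((hUm u).1 hu).1, hconj x u ((hUm u).1 hu).2⟩)
      (fun x hx u hu => (hUm _).2 ⟨by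
        rw [map_mul, map_mul, map_inv]
        refine h2 _ ?_ _ ((hUm u).1 hu).1
        rintro _ ⟨d, hd, rfl⟩
        exact (hx d hd).map φ, hconj x u ((hUm u).1 hu).2⟩)
    intro u hu
    obtain ⟨a, rfl, ha⟩ := hmap U hU u hu
    exact ⟨a, h3 ((hUm a).2 ⟨hu, ha⟩), rfl⟩

theorem pow_fac {U : Subgroup S} (h : IsPGroup p U) : Nat.card U = p ^ (Nat.card U).factorization p :=
  H592.Defect.card_eq_pow_factorization p h

theorem Lc.full (h : Lc p 1 P) : (Nat.card P).factorization p = (Nat.card S).factorization p := by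
  obtain ⟨Q, hQ⟩ := h.pg.exists_le_sylow
  rw [le_antisymm hQ (h.mx _ Q.isPGroup' hQ fun k _ => Commute.one_right k), Q.card_eq_multiplicity,
    hp.out.factorization_pow, Finsupp.single_eq_same]

/-- a `p`-subgroup normalised by `C(s)` whose centraliser lies in `⟨s⟩` -/
def QF (p : ℕ) {S : Type} [Group S] (s : S) : Prop :=
  ∃ U : Subgroup S, IsPGroup p U ∧ (∀ x : S, Commute s x → ∀ u ∈ U, x * u * x⁻¹ ∈ U) ∧
    ∀ r : S, (∀ u ∈ U, Commute u r) → r ∈ zpowers s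

theorem QF.map {s : S} (h : QF p s) (e : S ≃* T) : QF p (e s) := by
  obtain ⟨U, hU, hn, hr⟩ := h
  refine ⟨U.map e.toMonoidHom, hU.map _, fun x hx => ?_, fun r h1 => ?_⟩
  · rintro _ ⟨u, hu, rfl⟩
    obtain ⟨x, rfl⟩ := e.surjective x
    exact ⟨_, hn x (e.injective (by rw [map_mul, map_mul]; exact hx)) u hu, by simp⟩
  · obtain ⟨r, rfl⟩ := e.surjective r
    obtain ⟨k, rfl⟩ := hr r fun u hu => e.injective (by rw [map_mul, map_mul]; exact h1 _ ⟨u, hu, rfl⟩)
    exact ⟨k, (map_zpow e s k).symm⟩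

theorem QF.conj {s t : S} (h : QF p s) (ht : IsConj s t) : QF p t := by
  obtain ⟨c, rfl⟩ := isConj_iff.1 ht
  exact h.map (MulAut.conj c)

theorem QF.pow {s : S} (h : QF p s) {k : ℕ} (ho : orderOf (s ^ k) = orderOf s) : QF p (s ^ k) := by
  obtain ⟨U, hU, hn, hr⟩ := h
  have h1 : zpowers (s ^ k) = zpowers s := eq_of_le_of_card_ge (zpowers_le.2 (pow_mem (mem_zpowers s) k))
    (by rw [Nat.card_zpowers, Nat.card_zpowers, ho])
  exact ⟨U, hU, fun x hx => hn x (commute_of_mem_zpowers hx (h1.ge (mem_zpowers s))), fun r h2 => h1.ge (hr r h2)⟩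

theorem Cf.le_of_cent (C : Cf p g P W) {s : S} (hs : s ∈ W) {U : Subgroup S} (hU : IsPGroup p U)
    (hn : ∀ x : S, Commute s x → ∀ u ∈ U, x * u * x⁻¹ ∈ U) : U ≤ P :=
  C.core U hU (fun x hx => hn x (C.cen s hs x hx)) fun x hx => hn x (hx s (C.le hs))

theorem Cf.eq_one (C : Cf p g P W) {s : S} (hs : s ∈ W) (h : Constr p s) : g = 1 := by
  obtain ⟨U, hU, hn, hr⟩ := h
  exact hr g (fun d hd => C.cg d (C.le_of_cent hs hU hn hd)) C.reg

theorem Cf.nle (C : Cf p g P W) {s : S} (ho : orderOf s = p) : ¬ W ≤ zpowers s := fun h => by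
  have h1 := C.two.trans (card_dvd_of_le h)
  rw [Nat.card_zpowers, ho] at h1
  have h2 := (Nat.pow_dvd_pow_iff_le_right hp.out.one_lt).1 (h1.trans (pow_one p).symm.dvd)
  omega

theorem Cf.not_qf (C : Cf p g P W) {s : S} (hs : s ∈ W) (ho : orderOf s = p) : ¬ QF p s := by
  rintro ⟨U, hU, hn, hr⟩
  exact C.nle ho fun w hw => hr w fun u hu => (C.cen w hw u (C.le_of_cent hs hU hn hu)).symm

theorem Cf.exists_ord (C : Cf p g P W) : ∃ s ∈ W, orderOf s = p := by
  obtain ⟨s, hs⟩ := exists_prime_orderOf_dvd_card' p (G := W) ((dvd_pow_self p two_ne_zero).trans C.two)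
  exact ⟨s, s.2, (orderOf_coe s).trans hs⟩

theorem Lc.exists_conj (h : Lc p g P) {Y : Subgroup S} (hY : IsPGroup p Y) (hc : ∀ y ∈ Y, Commute y g) :
    ∃ c, Commute c g ∧ ∀ y ∈ Y, c * y * c⁻¹ ∈ P := by
  let C := centralizer ({g} : Set S)
  have hP : P ≤ C := fun d hd => mem_centralizer_singleton_iff.2 (h.cg d hd)
  obtain ⟨Q, hQ⟩ := (h.pg.comap_subtype (K := C)).exists_le_sylow
  obtain ⟨R, hR⟩ := (hY.comap_subtype (K := C)).exists_le_sylow
  obtain ⟨c, hc'⟩ := MulAction.exists_smul_eq C R Q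
  have h1 : (Q : Subgroup C).map C.subtype ≤ P := h.mx _ (Q.isPGroup'.map _)
    (fun d hd => ⟨⟨d, hP hd⟩, hQ hd, rfl⟩) (by
      rintro _ ⟨k, -, rfl⟩
      exact mem_centralizer_singleton_iff.1 k.2)
  refine ⟨c, mem_centralizer_singleton_iff.1 c.2, fun y hy =>
    h1 ⟨c * ⟨y, mem_centralizer_singleton_iff.2 (hc y hy)⟩ * c⁻¹, ?_, rfl⟩⟩
  rw [← hc', Sylow.coe_subgroup_smul]
  exact Subgroup.smul_mem_pointwise_smul _ (MulAut.conj c) _ (hR hy)

/-- an element of `P` whose `p ^ j`-th power is not in `W` -/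
theorem Cf.dvd_of_not_mem (C : Cf p g P W) {u : S} (hu : u ∈ P) {j : ℕ} (h : u ^ p ^ j ∉ W) {V : Subgroup S}
    (h1 : W ≤ V) (h2 : u ∈ V) : p ^ (j + 1) * Nat.card W ∣ Nat.card V := by
  have h3 : W ≤ P ⊓ V := le_inf C.le h1
  have : (W.subgroupOf (P ⊓ V)).Normal := ⟨fun w hw d => by
    show (d : S) * w * (d : S)⁻¹ ∈ W
    rwa [← (C.cen (w : S) hw d d.2.1).eq, mul_inv_cancel_right]⟩
  refine Dvd.dvd.trans ?_ (card_dvd_of_le (inf_le_right : P ⊓ V ≤ V))
  rw [← (W.subgroupOf (P ⊓ V)).card_mul_index, Nat.card_congr (subgroupOfEquivOfLe h3).toEquiv, mul_comm]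
  refine Nat.mul_dvd_mul_left _ (Dvd.dvd.trans ?_
    (orderOf_dvd_natCard ((⟨u, hu, h2⟩ : (P ⊓ V : Subgroup S)) : (P ⊓ V : Subgroup S) ⧸ W.subgroupOf (P ⊓ V))))
  obtain ⟨k, hk⟩ := pelt_of_mem C.pg hu
  obtain ⟨i, -, hi⟩ := (Nat.dvd_prime_pow hp.out).1 (orderOf_dvd_of_pow_eq_one
    (x := ((⟨u, hu, h2⟩ : (P ⊓ V : Subgroup S)) : (P ⊓ V : Subgroup S) ⧸ W.subgroupOf (P ⊓ V))) (n := p ^ k) (by
      rw [← QuotientGroup.mk_pow, show (⟨u, hu, h2⟩ : (P ⊓ V : Subgroup S)) ^ p ^ k = 1 from Subtype.ext hk]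
      rfl))
  rw [hi]
  refine pow_dvd_pow p (Nat.succ_le_of_lt (not_le.1 fun h4 => h ?_))
  have h5 := orderOf_dvd_iff_pow_eq_one.1 (hi ▸ pow_dvd_pow p h4)
  rw [← QuotientGroup.mk_pow, QuotientGroup.eq_one_iff] at h5
  exact h5

/-- **the killer** -/
theorem Cf.killer (C : Cf p g P W) {x : S} {a k : ℕ} (ho : orderOf g = orderOf (x ^ p ^ a))
    (hx : IsConj (g ^ k) (x ^ p ^ a)) (j : ℕ) : (∃ s ∈ W, ∃ r ∈ zpowers g, IsConj (x ^ p ^ j) (s * r)) ∨
      p ^ (j + 1) * Nat.card W ∣ Nat.card (centralizer ({x} : Set S)) := by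
  have h0 := TAB.ON.coprime_of_conj ho hx
  obtain ⟨c, hc⟩ := isConj_iff.1 hx.symm
  rw [← conj_pow] at hc
  have h1 : IsConj x (c * x * c⁻¹) := isConj_iff.2 ⟨c, rfl⟩
  generalize c * x * c⁻¹ = y at hc h1
  obtain ⟨e, he⟩ := exists_pow_eq_self_of_coprime (x := g ^ k) (n := p ^ a) (Nat.Coprime.pow_left _
    (((Nat.Prime.coprime_iff_not_dvd hp.out).2 C.reg).coprime_dvd_right (orderOf_pow_dvd k)))
  obtain ⟨f, hf⟩ := exists_pow_eq_self_of_coprime h0
  have h2 : Commute y g := by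
    rw [← hf, ← hc]
    exact (Commute.self_pow y _).pow_right f
  have h3 : (g ^ k) ^ e ∈ zpowers g := pow_mem (pow_mem (mem_zpowers g) k) e
  generalize hr : (g ^ k) ^ e = r at h3
  have h4 : Commute r y := commute_of_mem_zpowers h2.symm h3
  have h5 : (y * r⁻¹) ^ p ^ a = 1 := by
    rw [h4.symm.inv_right.mul_pow, inv_pow, hc, ← hr, ← pow_mul _ e, mul_comm e, pow_mul _ _ e, he, mul_inv_cancel]
  have h6 : Commute r g := commute_of_mem_zpowers (Commute.refl g) h3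
  obtain ⟨b, hb, h7⟩ := C.exists_conj (isPGroup_zpowers h5) fun z hz =>
    commute_of_mem_zpowers (h2.mul_left h6.inv_left) hz
  have h8 := h7 _ (mem_zpowers _)
  have h9 : b * y * b⁻¹ = b * (y * r⁻¹) * b⁻¹ * r := by
    rw [mul_assoc _ _ r, ← (commute_of_mem_zpowers hb.symm h3).inv_right.eq]
    group
  have h10 : IsConj x (b * (y * r⁻¹) * b⁻¹ * r) := h1.trans (isConj_iff.2 ⟨b, h9⟩)
  generalize b * (y * r⁻¹) * b⁻¹ = u at h8 h10
  have h11 : ∀ d ∈ P, Commute d r := fun d hd => (commute_of_mem_zpowers (C.cg d hd).symm h3).symm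
  by_cases h12 : u ^ p ^ j ∈ W
  · exact .inl ⟨_, h12, _, pow_mem h3 _, (h11 u h8).mul_pow (p ^ j) ▸ h10.pow _⟩
  · rw [fac_cent_conj h10]
    exact .inr (C.dvd_of_not_mem h8 h12 (fun w hw => mem_centralizer_singleton_iff.2
      ((C.cen w hw u h8).mul_right (h11 w (C.le hw))))
      (mem_centralizer_singleton_iff.2 ((Commute.refl u).mul_right (h11 u h8))))

section rows

variable {M : Ideal AlgInt} {K : Type} [Group K] [Finite K] {B : Set (IrrCharacter K)} {D : Subgroup K}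
  {χ : IrrCharacter K} {σ : K →* S}

theorem zd_le : ZD D ≤ D := fun _ h => (mem_ZD.1 h).1

theorem RHyp.inf_eq (H : RHyp p M B D χ σ) : ZD D ⊓ σ.ker = D ⊓ σ.ker :=
  le_antisymm (inf_le_inf_right _ zd_le) fun _ hz =>
    ⟨mem_ZD.2 ⟨hz.1, fun d _ => mem_center_iff.1 (H.ker ▸ hz.2) d⟩, hz.2⟩

theorem RHyp.pos (H : RHyp p M B D χ σ) (h : ¬ Rob p D χ) : 0 < blockHeight p B (χ : K → ℂ) :=
  Nat.pos_of_ne_zero fun h0 => h ((rob_iff H.nab).2 (sm_of_height H.hM H.hB H.hD H.mem h0))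

theorem RHyp.cf (H : RHyp p M B D χ σ) (h : ¬ Rob p D χ) {y : K} (hy : ¬ p ∣ orderOf y)
    (hs : Basic.IsSylowCentralizer p y D) : Cf p (σ y) (D.map σ) ((ZD D).map σ) := by
  have L := (lc_of_block H.hM H.hB H.hD hy hs).quot σ H.surj H.ker.le
  have a1 := fac_mul (p := p) (card_ker_mul σ D) Nat.card_pos.ne'
  have a2 := fac_mul (p := p) (card_ker_mul σ (ZD D)) Nat.card_pos.ne'
  rw [RHyp.inf_eq H, card_ZD] at a2
  have a3 := fac_center H.pg H.na
  have a4 := H.big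
  have a5 := fac_mono (p := p) (inf_le_right : D ⊓ σ.ker ≤ _)
  have a6 := fac_inf_central H.hM H.hB H.hD H.ker.le
  have a7 := fac_mul (p := p) (σ.ker.card_mul_index) Nat.card_pos.ne'
  rw [index_ker, MonoidHom.range_eq_top.2 H.surj, card_top] at a7
  have hW : IsPGroup p ((ZD D).map σ) := L.pg.to_le (map_mono zd_le)
  refine ⟨L, map_mono zd_le, ?_, ?_, ?_, ?_, ?_⟩
  · rintro _ ⟨w, hw, rfl⟩ _ ⟨d, hd, rfl⟩
    exact Commute.map ((mem_ZD.1 hw).2 d hd).symm σ
  · rw [← H.ker] at a4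
    exact (hp.out.pow_dvd_iff_le_factorization Nat.card_pos.ne').2 (by omega)
  · rw [pow_fac hW, pow_fac L.pg, ← pow_add]
    exact pow_dvd_pow p (by omega)
  · rintro n hn _ ⟨w, hw, rfl⟩
    obtain ⟨n, rfl⟩ := H.surj n
    obtain ⟨D', hD', hm⟩ := exists_plift (p := p) H.ker.le L.pg
    have b1 : D' ≤ D := H592.Defect.eq_of_le_of_factorization p H.pg hD'
      (fun d hd => (hm d).2 ⟨⟨d, hd, rfl⟩, pelt_of_mem H.pg hd⟩) (by
        have c1 := fac_mul (p := p) (card_ker_mul σ D') Nat.card_pos.ne'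
        have c2 := fac_mono (p := p) (inf_le_right : D' ⊓ σ.ker ≤ _)
        have c3 := fac_mono (p := p) (map_le_iff_le_comap.2 fun d hd => ((hm d).1 hd).1 : D'.map σ ≤ D.map σ)
        omega) |>.ge
    have b2 : ∀ d ∈ D, n * d * n⁻¹ ∈ D := fun d hd => b1 ((hm _).2 ⟨by
      rw [map_mul, map_mul, map_inv]
      exact hn _ ⟨d, hd, rfl⟩, (pelt_of_mem H.pg hd).imp fun k hk => by rw [conj_pow, hk]; simp⟩)
    have b3 := mem_normalizer_fintype b2
    refine ⟨n * w * n⁻¹, mem_ZD.2 ⟨b2 w (zd_le hw), fun d hd => ?_⟩, by simp⟩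
    have b4 := (mem_ZD.1 hw).2 _ ((mem_normalizer_iff''.1 b3 d).1 hd)
    calc d * (n * w * n⁻¹) = n * (n⁻¹ * d * n * w) * n⁻¹ := by group
      _ = _ := by rw [b4]; group
  · rintro h1 _ ⟨z, hz, rfl⟩ h2
    have b1 := (h1 ▸ L).full
    have b2 := Blk.nu_add H.hM H.hB H.hD H.mem
    have b3 := RHyp.pos H h
    have b4 := df_add (p := p) χ
    have b5 := Blk.ct H.hM H.hB H.hD (by omega) H.mem rfl (k := df p χ) (by rw [add_comm]; exact b4) (by omega)
    have b6 : Nat.card σ.ker * Nat.card {x : S // IsConj (σ z) x} ≤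
        Nat.card {g : K // ∃ z ∈ ZD D, z ∉ center K ∧ ∃ c ∈ center K, IsConj (z * c) g} := by
      have c0 : ∀ u : σ.ker × {x : S // IsConj (σ z) x}, σ (u.1 * Function.surjInv H.surj u.2) = u.2 := fun u => by
        rw [map_mul, show σ u.1 = 1 from u.1.2, one_mul, Function.surjInv_eq H.surj]
      rw [← Nat.card_prod]
      refine Nat.card_le_card_of_injective (fun u => ⟨u.1 * Function.surjInv H.surj u.2, z, hz,
        fun c1 => h2 (H.ker ▸ c1 : z ∈ σ.ker), ?_⟩) fun u v huv => ?_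
      · obtain ⟨c, hc⟩ := isConj_iff.1 u.2.2
        obtain ⟨k, rfl⟩ := H.surj c
        refine ⟨z⁻¹ * (k⁻¹ * (u.1 * Function.surjInv H.surj u.2) * k), H.ker ▸ MonoidHom.mem_ker.2 ?_,
          isConj_iff.2 ⟨k, by group⟩⟩
        rw [map_mul, map_mul, map_mul, c0, ← hc, map_inv, map_inv]
        group
      · have c1 : (u.1 : K) * Function.surjInv H.surj u.2 = v.1 * Function.surjInv H.surj v.2 := congrArg Subtype.val huv
        have c2 : u.2 = v.2 := Subtype.ext (by rw [← c0 u, c1, c0])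
        rw [c2] at c1
        exact Prod.ext (Subtype.ext (mul_right_cancel c1)) c2
    unfold Rob at h
    have b7 : p ^ (2 * (charDegree (χ : K → ℂ)).factorization p) ≤ Nat.card (centralizer ({σ z} : Set S)) := by
      have c1 := Nat.le_of_mul_le_mul_right ((Nat.le_add_right _ _).trans (b5.trans (mul_comm _ _).le))
        (pow_pos hp.out.pos _)
      have c2 := (Nat.mul_le_mul_left _ b6).trans c1
      rw [← σ.ker.card_mul_index, index_ker, MonoidHom.range_eq_top.2 H.surj, card_top,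
        ← TAB.Eng.card_class (σ z), mul_left_comm, mul_comm (p ^ _)] at c2
      have : Nonempty {x : S // IsConj (σ z) x} := ⟨⟨_, IsConj.refl _⟩⟩
      exact Nat.le_of_mul_le_mul_left (Nat.le_of_mul_le_mul_left c2 Nat.card_pos) Nat.card_pos
    refine le_trans ?_ (Nat.mul_le_mul_left _ b7)
    rw [pow_fac hW, pow_fac L.pg, ← pow_mul, ← pow_mul, ← pow_add]
    exact Nat.pow_le_pow_right hp.out.pos (by omega)

/-- **the row from the local configuration** -/
theorem rrow_of_cf (h : ∀ (g : S) (P W : Subgroup S), Cf p g P W → False) : RRow p S := fun K _ _ σ M B D χ H => by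
  by_contra h1
  obtain ⟨y, h2, h3, -⟩ := Blk.val H.hM H.hB H.hD
  exact h _ _ _ (RHyp.cf H h1 h2 h3)

/-- **the row from the local configuration, trivial multiplier** -/
theorem rrow_of_ch (hZ : HasCyclicSchurMultiplier S 1)
    (h : ∀ (g : S) (P W : Subgroup S), Cf p g P W → Ch p g P W → False) : RRow p S := fun K _ _ σ M B D χ H => by
  by_contra h1
  obtain ⟨y, h2, h3, h4⟩ := Blk.val H.hM H.hB H.hD
  have h5 : σ.ker = ⊥ := card_eq_one.1 (Nat.dvd_one.1
    (H95.StemCover.card_ker_dvd_cyclic hZ H.qs.1.commutator_eq_top σ H.surj H.ker.le))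
  have h6 := (MonoidHom.ker_eq_bot_iff σ).1 h5
  let e := MulEquiv.ofBijective σ ⟨h6, H.surj⟩
  have h7 : Nat.card S = Nat.card K := (Nat.card_congr e.toEquiv).symm
  have h8 : ∀ ψ : K → ℂ, charDegree (fun g => ψ (e.symm g)) = charDegree ψ := fun ψ => by
    simp only [charDegree, map_one]
  have C := RHyp.cf H h1 h2 h3
  refine h _ _ _ C ⟨⟨_, VAN.isIrr_comp_equiv e.symm χ.2, ?_, ?_, ?_⟩, ?_⟩
  · obtain ⟨u, hu⟩ : ∃ u ∈ ZD D, u ≠ 1 := by
      by_contra h9
      push Not at h9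
      have := C.two
      rw [(eq_bot_iff (a := ZD D)).2 h9, Subgroup.map_bot, card_bot] at this
      exact hp.out.not_dvd_one ((dvd_pow_self p two_ne_zero).trans this)
    have a1 := add_two_le H.hM H.hB H.hD H.mem (RHyp.pos H h1) (zd_le hu.1) (fun d hd => ((mem_ZD.1 hu.1).2 d hd).symm)
      (by rw [← H.ker, h5]; exact hu.2)
    have a2 := df_add (p := p) χ
    rw [h8, h7]
    change _ + (charDegree (χ : K → ℂ)).factorization p = _ at a2
    omega
  · rw [h8, h7, card_map_of_injective h6, card_ZD]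
    exact not_lt.1 h1
  · rintro _ ⟨z, hz, rfl⟩
    rw [← map_mul, show e.symm (σ (z * y)) = z * y from e.symm_apply_apply _]
    exact (h4 χ H.mem z hz).1
  · have := LocalRing.isPrime H.hM
    obtain ⟨ψ, hψ, hψ0⟩ := HeightZeroSection.exists_height_zero (Basic.isPBlock_nonempty H.hB) p
    refine ⟨_, VAN.isIrr_comp_equiv e.symm ψ.2, ?_⟩
    rw [h8, h7, card_map_of_injective h6, Blk.nu_add H.hM H.hB H.hD hψ, hψ0, add_zero]

end rows

end Cfsg.Agent.KM.Mu.Sp
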