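import Cfsg.Agent.KM.Mu.Sp.CtB
import Cfsg.Agent.KM.Sp.Main
import Cfsg.Agent.TH.Spor.InE
import Cfsg.Agent.H810.RIM.BCent

/-!
# S4576, the sporadic rows: the Baby Monster (helper46)
-/

set_option autoImplicit false
set_option maxRecDepth 100000
set_option linter.unusedSectionVars false

namespace Cfsg.Agent.KM.Mu.Sp

open Cfsg Subgroup Cfsg.Agent.BHZ.Spor Cfsg.Agent.TAB Cfsg.Agent.TAB.Eng Cfsg.Agent.TAB.Use Cfsg.Agent.PQ.Spor
open Cfsg.Agent.NotCT Cfsg.Agent.KM.Sp Cfsg.Agent.TH.Spor Cfsg.Agent.TwoF.SpO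

/-- the coefficients of a certificate, divided by their common divisor -/
noncomputable def zF (D : Dat) (W : List (List ℤ)) (m : List (ℤ × ℕ)) (c : ℤ) : List ℤ :=
  W.map fun w => Int.ediv (Int.mul (Int.ediv D.N (nth w 0))
    (List.rec 0 (fun p _ ih => Int.add (Int.mul p.1 (nth w p.2)) ih) m)) c

/-- the check of the bound `U` for the type `t` -/
noncomputable def okF (D : Dat) (W : List (List ℤ)) (m : List (ℤ × ℕ)) (c : ℤ) (t U u v : ℕ) : Bool :=
  Glue.frcM W fun W' => frcLZ (zF D W' m c) fun z => frcLZ (accP z W' (List.replicate D.n 0)) fun V =>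
    frc (gcdL V) fun M => Nat.beq
      (U % Nat.gcd ((Int.mul D.N (sumP t u z W')).natAbs / M) ((Int.mul D.N (sumP t v z W')).natAbs / M)) 0

theorem bnd_of_okF {S : Type} [Group S] [Finite S] {D : Dat} {T : TD S D} (hm : T.Mass) {W : List (List ℤ)}
    (hW : ∀ w ∈ W, IrrRow T w) {m : List (ℤ × ℕ)} {c : ℤ} {t U u v : ℕ} (h : okF D W m c t U u v = true)
    (h1 : T.ty 1 = 0) (hu : ∃ y, T.ty y = u) (hv : ∃ y, T.ty y = v) : Bnd T t U := by
  obtain ⟨y, rfl⟩ := hu
  obtain ⟨z, rfl⟩ := hv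
  rintro x rfl
  rw [okF, Glue.frcM_eq, frcLZ_eq, frcLZ_eq, frc_eq, Nat.beq_eq] at h
  exact (Nat.dvd_gcd (dvd_sumP hm.1 h1 hW _ x y) (dvd_sumP hm.1 h1 hW _ x z)).trans (Nat.dvd_of_mod_eq_zero h)

theorem okF_B : okF B.Fin.datF (B.Bes.rowsL B.Fin.cols 0 166) [(39604454602813900800, 9),
    (-2526555667, 0), (-6071742819081576, 1), (107757396421707123, 2), (54057050149909847040, 8),
    (5359449187792060416, 3), (69105986071888396288, 5), (13631010686213953032, 4), (-24071040433554895872, 7),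
    (3563247386910762270720, 11)] 22746495509728749158400 8 109586090557440 8 109 = true := by decide +kernel

theorem b_35 {S : Type} [Group S] [Finite S] [Fact (Nat.Prime 3)] [Fact (Nat.Prime 5)] (h : Spor.IsoB S) :
    RRow 3 S ∧ RRow 5 S := by
  obtain ⟨T, hm, hT⟩ := h.elim fun e => tB.pull e
  have hW := irr_mkRows (B.Fin.tabB_eq ▸ hT)
  have hI := inh_of_mass hm (by decide +kernel)
  have h0 : ∀ {Q : S → Prop} (s), T.ty s ∈ ([] : List ℕ) → Q s := fun _ h => absurd h List.not_mem_nil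
  have h1 : Bnd T 4 11689182992793600 := bnd_of_chk hm hW okB_B (4, 11689182992793600, _)
    (List.mem_cons_of_mem _ (List.mem_cons_of_mem _ (List.mem_cons_of_mem _ List.mem_cons_self)))
  have h2 := bnd_of_okF hm hW okF_B (ty_one (by decide +kernel)) (hI _ (by decide)) (hI _ (by decide))
  refine ⟨okB_3.rrow ⟨hm, hT, List.forall_mem_cons.2 ⟨h1, List.forall_mem_singleton.2 h2⟩⟩ RatL.nil
    (fun s hs => ?_) h0, okB_5.rrow ⟨hm, hT, List.forall_mem_singleton.2 fun g hg => ?_⟩ RatL.nil h0 h0⟩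
  · rw [List.mem_singleton] at hs
    obtain ⟨Q, -, hQ, hn, -, hc⟩ := H604.RB.ThreeB.qframe_three h (s := s) (by rw [T.ord, hs]; decide +kernel)
      (not_dvd_cent (Hy.nil hm hT) hs 18 (by decide +kernel))
    exact ⟨Q, hQ, fun x hx u hu => (mem_normalizer_iff.1 (hn x hx.symm) u).1 hu, hc⟩
  · exact (H810.RIM.BCent.card_cent h (by rw [T.ord, hg]; decide +kernel)).dvd

end Cfsg.Agent.KM.Mu.Sp
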