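import Cfsg.Agent.KM.Mu.Sp.CtB
import Cfsg.Agent.KM.Sp.Main
import Cfsg.Agent.TH.Spor.InB
import Cfsg.Agent.H343.Has
import Cfsg.Agent.S2059

/-!
# S4576, the sporadic rows: the Monster (helper46)
-/

set_option autoImplicit false
set_option maxRecDepth 100000
set_option linter.unusedSectionVars false

namespace Cfsg.Agent.KM.Mu.Sp

open Cfsg Subgroup Cfsg.Agent.BHZ.Spor Cfsg.Agent.TAB Cfsg.Agent.TAB.Eng Cfsg.Agent.TAB.Use Cfsg.Agent.PQ.Spor
open Cfsg.Agent.NotCT Cfsg.Agent.KM.Sp Cfsg.Agent.BpSpor.M5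

variable {p : ℕ} [hp : Fact p.Prime] {S : Type} [Group S] [Finite S]

theorem pg_of_regTriv {U : Subgroup S} (h : RegTriv p U) : IsPGroup p (centralizer (U : Set S)) := fun g => by
  obtain ⟨k, m, hm, h3⟩ := Nat.exists_eq_pow_mul_and_not_dvd (orderOf_pos (g : S)).ne' p hp.out.ne_one
  refine ⟨k, Subtype.ext (h _ (fun d hd => Commute.pow_right (mem_centralizer_iff.1 g.2 d hd) _) fun h4 => hm ?_)⟩
  refine h4.trans (orderOf_dvd_of_pow_eq_one ?_)
  rw [Subgroup.coe_pow, ← pow_mul, ← h3, pow_orderOf_eq_one]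

theorem le_of_rad {z x : S} {N : Subgroup S} {A : Type} [Group A] [IsSimpleGroup A]
    {f : centralizer ({z} : Set S) →* A} (h : Rad p z x N f) (hp2 : p ≠ 2) (hns : ¬ Group.IsSolvable A)
    (hN : IsPGroup p N) (K : Subgroup S) [K.Normal] (hK : IsPGroup p K) : K ≤ N := by
  have := h.nN
  intro r hr
  have hL : IsPGroup p (K ⊔ N : Subgroup S) := hK.to_sup_of_normal_right hN
  obtain ⟨n, hn, c, hc, rfl⟩ := h.sup r
  have hc' : c ∈ K ⊔ N := ((K ⊔ N).mul_mem_cancel_left (mem_sup_right hn)).1 (mem_sup_left hr)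
  have h1 : f ⟨c, mem_centralizer_singleton_iff.2 hc⟩ = 1 := by
    by_contra h3
    have := hL.isNilpotent
    exact H199.AbRad.not_solvable_of_mem h hns (K ⊔ N) (c := ⟨c, mem_centralizer_singleton_iff.2 hc⟩) hc' h3
      inferInstance
  obtain ⟨i, hi | hi⟩ := h.ker _ h1
  · exact N.mul_mem hn ((show c = x ^ i from hi) ▸ N.zpow_mem h.xN i)
  · obtain ⟨j, hj⟩ := pelt_of_mem hL (((K ⊔ N).mul_mem_cancel_left (mem_sup_right (N.zpow_mem h.xN i))).1
      ((show c = x ^ i * z from hi) ▸ hc'))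
    refine absurd (eq_one_of_reg (fun h2 => hp2 ?_) hj) h.z1
    exact (Nat.prime_dvd_prime_iff_eq hp.out Nat.prime_two).1
      (h2.trans (orderOf_dvd_of_pow_eq_one (by rw [sq, h.zz])))

theorem qf_of_rad {x : S} {x' z : centralizer ({x} : Set S)} {N : Subgroup (centralizer ({x} : Set S))} {A : Type}
    [Group A] [IsSimpleGroup A] {f : centralizer ({z} : Set (centralizer ({x} : Set S))) →* A} (h : Rad p z x' N f)
    (hp2 : p ≠ 2) (hns : ¬ Group.IsSolvable A) {k : centralizer ({z} : Set (centralizer ({x} : Set S)))}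
    (hk : (k : centralizer ({x} : Set S)) * k = z) {n : ℕ} (hN : Nat.card N = p ^ (2 * (n + 1) + 1)) {Q : Subgroup S}
    (hQ : Xs p (n + 1) x Q) : QF p x := by
  have := h.nN
  have h1 : IsPGroup p Q := IsPGroup.of_card hQ.card
  have h2 : IsPGroup p N := IsPGroup.of_card hN
  refine ⟨Q, h1, hQ.norm, fun r hr => hQ.cen r ?_ fun m hm => (hr m hm).symm⟩
  have hle : Q ≤ centralizer ({x} : Set S) := fun u hu => mem_centralizer_singleton_iff.2 (hQ.le u hu).symm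
  have : (Q.subgroupOf (centralizer ({x} : Set S))).Normal :=
    ⟨fun u hu g => hQ.norm g (mem_centralizer_singleton_iff.1 g.2).symm u hu⟩
  have h3 : Q.subgroupOf _ = N := eq_of_le_of_card_ge (le_of_rad h hp2 hns h2 _ h1.comap_subtype)
    (by rw [Nat.card_congr (subgroupOfEquivOfLe hle).toEquiv, hN, hQ.card])
  have h4 := le_of_rad h hp2 hns h2 _ (pg_of_regTriv (regTriv_of_rad h hp2 hns hk h2 (hN ▸ pow_dvd_pow p (by omega))))
  exact h3.ge (h4 (x := ⟨r, mem_centralizer_singleton_iff.2 (hr x hQ.mem).symm⟩)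
    (mem_centralizer_iff.2 fun u hu => Subtype.ext (hr u (h3.ge hu))))

/-- an element with a frame and a large centraliser -/
def QX (p a : ℕ) (S : Type) [Group S] : Prop :=
  ∃ x : S, orderOf x = p ∧ QF p x ∧ p ^ a ∣ Nat.card (centralizer ({x} : Set S))

theorem QX.map {a : ℕ} {T : Type} [Group T] (h : QX p a S) (e : S ≃* T) : QX p a T := by
  obtain ⟨x, h1, h2, h3⟩ := h
  exact ⟨e x, (e.orderOf_eq x).trans h1, h2.map e, (H343.card_centralizer_equiv e x).symm ▸ h3⟩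

/-- the elements of the type `t` are conjugate to powers of `x` -/
theorem conj_of_type {D : Dat} {T : TD S D} {R : TAB.Use.Rows} {X : List (ℕ × ℕ)} (H : Hy T R X) (hU : TH.Spor.Unif T)
    {x : S} (ho : orderOf x = p) {m : ℕ} (hm : m ∣ Nat.card (centralizer ({x} : Set S))) (t : ℕ) (L : List (ℕ × ℕ))
    (h : ∀ i < D.n, D.ord i = p → i = t ∨ cbd D R X i (look L i) % m ≠ 0) {s : S} (hs : T.ty s = t) :
    ∃ k : ℕ, orderOf (x ^ k) = orderOf x ∧ IsConj (x ^ k) s := by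
  have h1 : T.ty x = t := (h _ (T.lt x) ((T.ord x).symm.trans ho)).resolve_right fun h2 => not_dvd_cent H rfl _ h2 hm
  obtain ⟨k, hk⟩ := hU x s (ho ▸ hp.out) (h1.trans hs.symm)
  obtain ⟨c, rfl⟩ := isConj_iff.1 hk
  exact ⟨k, by rw [T.ord x, h1, ← hs, T.conj, T.ord], hk⟩

theorem QX.qf {a : ℕ} (h : QX p a S) {D : Dat} {T : TD S D} {R : TAB.Use.Rows} {X : List (ℕ × ℕ)} (H : Hy T R X)
    (hU : TH.Spor.Unif T) (t : ℕ) (L : List (ℕ × ℕ))
    (hL : ∀ i < D.n, D.ord i = p → i = t ∨ cbd D R X i (look L i) % p ^ a ≠ 0) (s : S) (hs : T.ty s ∈ [t]) : QF p s := by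
  obtain ⟨x, h1, h2, h3⟩ := h
  obtain ⟨k, h4, h5⟩ := conj_of_type H hU h1 h3 t L hL (List.mem_singleton.1 hs)
  exact (h2.pow h4).conj h5

section monster

open Cfsg.Agent.MonsterX Cfsg.Agent.MonsterX.InstData Cfsg.Agent.MonsterU Cfsg.Agent.LThreeMB
open Cfsg.Agent.BpSpor.MBigModel Cfsg.Agent.H199.NSmMon Cfsg.Agent.BHZ.Spor.Mon

theorem qx_three [Fact (Nat.Prime 3)] : QX 3 20 MG := by
  have := finite
  obtain ⟨w, hw, hfw, hfull⟩ := H31.TwoCyc.MPart.exists_full3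
  obtain ⟨N, hD⟩ := H740.OreM.ThreeBd.exists_SD hw hfw
  have := hD.simple
  obtain ⟨k, hk⟩ := hD.sq
  exact ⟨w, (orderOf_coe w).trans hw, qf_of_rad hD.rad (by norm_num) hD.ns hk (n := 5) hD.cardN
    (xs_of_rad (n := 5) (x' := self (w : MG)) rfl hD.rad (by norm_num) hD.ns hk hD.cardN hD.cen),
    hfull 20 (by rw [card_M]; norm_num)⟩

theorem qx_five [Fact (Nat.Prime 5)] : QX 5 9 MG := by
  have := finite
  obtain ⟨w, Q, hw, hfw, hX⟩ := exists_xs_five
  obtain ⟨⟨N, hN⟩, -⟩ := H31.TwoCyc.MPart.rd5 hw hfw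
  have := hN.simple
  obtain ⟨k, hk⟩ := hN.sq
  exact ⟨w, hX.ord, qf_of_rad hN.rad (by norm_num) hN.ns hk (n := 2) (card_rad_five hw hfw hN.rad) hX, five_nine hw hfw⟩

theorem qx_seven [Fact (Nat.Prime 7)] : QX 7 6 MG := by
  have := finite
  obtain ⟨w, Q, hw, hfw, hX, hc⟩ := exists_xs_seven
  obtain ⟨⟨N, hN⟩, hA⟩ := H31.TwoCyc.MPart.rd7 hw hfw
  have := hN.simple
  obtain ⟨k, hk⟩ := hN.sq
  obtain ⟨m, hm, hcm⟩ := hN.rad.card_N_mul hN.ns
  refine ⟨w, hX.ord, qf_of_rad hN.rad (by norm_num) hN.ns hk (n := 1) ?_ hX, by rw [hc]; norm_num⟩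
  have h1 := Nat.odd_iff.1 hN.rad.oN
  rw [hc, hA] at hcm
  rcases (Nat.dvd_prime Nat.prime_two).1 hm with rfl | rfl <;> omega

theorem m_357 [Fact (Nat.Prime 3)] [Fact (Nat.Prime 5)] [Fact (Nat.Prime 7)] (h : Spor.IsoM S) :
    RRow 3 S ∧ RRow 5 S ∧ RRow 7 S := by
  obtain ⟨e⟩ := h
  obtain ⟨f⟩ := MonsterP.Equiv.equiv
  have := finite
  have := Finite.of_equiv S e.toEquiv
  obtain ⟨T, hm, hT, hU⟩ := TH.Spor.in_m (K := Spor.Monster) ⟨MulEquiv.refl _⟩
  have H := Hy.nil hm hT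
  have h0 : ∀ {Q : Spor.Monster → Prop} (s), T.ty s ∈ ([] : List ℕ) → Q s := fun _ h => absurd h List.not_mem_nil
  exact ⟨RRow.of_equiv e (okM_3.rrow_one S2059.result H RatL.nil 20 (by decide +kernel)
      ((qx_three.map f.symm).qf H hU 4 [(3, 54), (5, 98)] (by decide +kernel)) h0),
    RRow.of_equiv e (okM_5.rrow H RatL.nil ((qx_five.map f.symm).qf H hU 11 [(10, 19)] (by decide +kernel)) h0),
    RRow.of_equiv e (okM_7.rrow H RatL.nil ((qx_seven.map f.symm).qf H hU 19 [(18, 9)] (by decide +kernel)) h0)⟩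

end monster

end Cfsg.Agent.KM.Mu.Sp
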