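import Cfsg.Agent.KM.Mu.Sp.CtA
import Cfsg.Agent.KM.Mu.Sp.RowM
import Cfsg.Agent.RC.D1G
import Cfsg.Agent.BHZ.Spor.RowCo13
import Cfsg.Agent.H415.M5.Syl
import Cfsg.Agent.CoFive.Ranks

/-!
# S4576, the sporadic rows: `Co1` (helper46)
-/

set_option autoImplicit false
set_option maxRecDepth 100000
set_option linter.unusedSectionVars false

namespace Cfsg.Agent.KM.Mu.Sp

open Cfsg Subgroup Cfsg.Agent.BHZ.Spor Cfsg.Agent.TAB Cfsg.Agent.TAB.Eng Cfsg.Agent.TAB.Use Cfsg.Agent.PQ.Spor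
open Cfsg.Agent.NotCT Cfsg.Agent.KM.Sp Cfsg.Agent.RC.D1
open scoped commutatorElement

variable {p : ℕ} [hp : Fact p.Prime] {S : Type} [Group S] [Finite S]

/-- a section of class three in a centraliser -/
theorem Cf.desc {P W : Subgroup S} (F : Cf p 1 P W) {t : S} (ht : orderOf t = p) {A : Type} [Group A] [Finite A]
    (φ : centralizer ({t} : Set S) →* A) (hs : Function.Surjective φ) (hk : ∀ c, φ c = 1 ↔ (c : S) ∈ zpowers t)
    {Q : Subgroup A} (hQ : IsPGroup p Q) (h3 : C3 Q) (h5 : ¬ p ^ 5 ∣ Nat.card A) (h6 : p ^ 6 ∣ Nat.card S) : False := by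
  have h1 : Nat.card φ.ker ∣ p := by
    rw [← ht, ← Nat.card_zpowers, ← card_map_of_injective (subtype_injective _)]
    refine card_dvd_of_le ?_
    rintro _ ⟨c, hc, rfl⟩
    exact (hk c).1 hc
  obtain ⟨c, -, hc⟩ := F.exists_conj ((hQ.comap_of_ker_isPGroup φ (IsPGroup.of_card_dvd_pow (n := 1)
    (by rwa [pow_one]))).map (Subgroup.subtype _)) fun y _ => Commute.one_right y
  let ψ := (MulAut.conj c).toMonoidHom.comp (centralizer ({t} : Set S)).subtype
  have h2 : Function.Injective ψ := (MulAut.conj c).injective.comp (subtype_injective _)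
  have h4 : ∀ U : Subgroup S, (∀ u ∈ U, Commute u (c * t * c⁻¹)) → Nat.card (U.comap ψ) = Nat.card U := fun U hU => by
    rw [← card_map_of_injective h2, map_comap_eq_self fun u hu => ⟨⟨c⁻¹ * u * c,
      mem_centralizer_singleton_iff.2 (by simpa [mul_assoc] using ((hU u hu).map (MulAut.conj c⁻¹)).eq)⟩, by
        simp [ψ, mul_assoc]⟩]
  by_cases h7 : c * t * c⁻¹ ∈ W
  · have h8 := card_subgroup_dvd_card (P.comap ψ)
    rw [h4 P fun u hu => (F.cen _ h7 u hu).symm, ← φ.ker.card_mul_index, index_ker, MonoidHom.range_eq_top.2 hs,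
      card_top] at h8
    have h9 := (hp.out.pow_dvd_iff_le_factorization Nat.card_pos.ne').2
      (F.full ▸ (hp.out.pow_dvd_iff_le_factorization Nat.card_pos.ne').1 h6)
    exact h5 (Nat.dvd_of_mul_dvd_mul_left hp.out.pos (pow_succ' p 5 ▸ h9.trans (h8.trans (Nat.mul_dvd_mul_right h1 _))))
  have h8 : W.comap ψ ⊓ φ.ker = ⊥ := eq_bot_iff.2 fun u hu => by
    by_contra h9
    obtain ⟨k, h10⟩ := mem_zpowers_of_mem ht ((hk u).1 hu.2) fun e => h9 (Subtype.ext e)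
    refine h7 (h10 ▸ ?_)
    exact (W.comap ψ).zpow_mem hu.1 k
  have h9 := card_ker_mul φ (W.comap ψ)
  rw [h8, card_bot, one_mul, h4 W fun w hw => F.cen w hw _ (hc t ⟨⟨t, mem_centralizer_singleton_iff.2 rfl⟩, ?_, rfl⟩)] at h9
  · have h10 : Q ≤ (P.comap ψ).map φ := fun q hq => by
      obtain ⟨y, rfl⟩ := hs q
      exact ⟨y, hc y ⟨y, hq, rfl⟩, rfl⟩
    obtain ⟨x, hx, y, hy, w, hw, h11⟩ := h3
    have h12 := C3.lt ⟨x, h10 hx, y, h10 hy, w, h10 hw, h11⟩ ((F.pg.comap_of_injective ψ h2).map φ)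
      ((Cn.comap ⟨F.le, F.cen⟩ h2).map φ)
    have h13 := fac_le (p := p) (card_subgroup_dvd_card ((P.comap ψ).map φ)) Nat.card_pos.ne'
    have h14 := fac_lt_of Nat.card_pos.ne' h5
    have h15 := (hp.out.pow_dvd_iff_le_factorization Nat.card_pos.ne').1 (h9 ▸ F.two)
    omega
  · exact mem_comap.2 ((hk ⟨t, _⟩).2 (mem_zpowers t) ▸ one_mem Q)

/-- an even permutation -/
def ev (f : Equiv.Perm (Fin 9)) (h : Equiv.Perm.sign f = 1 := by decide +kernel) : alternatingGroup (Fin 9) := ⟨f, h⟩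

theorem a9 : ∃ Q : Subgroup (alternatingGroup (Fin 9)), IsPGroup 3 Q ∧ C3 Q := by
  have : Fact (Nat.Prime 3) := ⟨Nat.prime_three⟩
  refine ⟨_, wr (a := ev c[0, 1, 2]) (b := ev c[3, 4, 5]) (c := ev c[6, 7, 8]) (d := 1)
    (t := ev (c[0, 3, 6] * c[1, 4, 7] * c[2, 5, 8])) ?_ ?_ ?_ (one_pow 3) ?_ ?_ ?_ ?_ (Commute.one_right _)
    (Commute.one_right _) (Commute.one_right _) ?_ ?_ ?_ (Commute.one_right _), ev c[0, 1, 2], subset_closure (by simp),
    ev (c[0, 3, 6] * c[1, 4, 7] * c[2, 5, 8]), subset_closure (by simp), ev (c[0, 3, 6] * c[1, 4, 7] * c[2, 5, 8]),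
    subset_closure (by simp), ?_⟩
  all_goals decide +kernel

theorem co1_35 [Fact (Nat.Prime 3)] [Fact (Nat.Prime 5)] (h : Spor.IsoCo1 S) : RRow 3 S ∧ RRow 5 S := by
  obtain ⟨e⟩ := h
  have := Finite.of_equiv S e.toEquiv
  have hN := Orders.co1 (K := Spor.Co1) ⟨MulEquiv.refl _⟩
  refine ⟨RRow.of_equiv e (rrow_of_cf fun g P W F => ?_), RRow.of_equiv e ?_⟩
  · obtain ⟨T, h1, h2, -, -, h3⟩ := Co1.tab
    have H := Hy.nil h1 h3
    have h4 := okCo1_3.mem H RatL.nil F (fun e => absurd e Bool.false_ne_true) F.four F.two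
      (fun _ _ => List.not_mem_nil) fun hg s hs h5 => hg (F.eq_one hs ?_)
    · obtain rfl : g = 1 := orderOf_eq_one_iff.1 (by rw [T.ord, List.mem_singleton.1 h4]; rfl)
      obtain ⟨t, ht, -, ⟨f⟩, -⟩ := LThreeMB.CoOneFin.coOne.nine
      obtain ⟨φ, h5, h6⟩ := exists_hom_of_XX f
      obtain ⟨Q, h7, h8⟩ := a9
      exact F.desc ht φ h5 h6 h7 h8 (by rw [nat_card_alternatingGroup, Nat.card_fin]; decide)
        (by rw [hN]; norm_num)
    · have h6 := TID.SO.order_mk (by norm_num) LThreeCo1Six.Main.orderOf_x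
      obtain ⟨k, h7, h8⟩ := conj_of_type H (TH.Spor.unif_of_rat h2) h6 (H898.WkCo1.dvd_six h6 LThreeCo1.Ranks.fr_c6) 6
        [(4, 17), (5, 24), (7, 37)] (by decide +kernel) (List.mem_singleton.1 h5)
      exact (Co13.constr_six.of_zpowers (mem_zpowers_of_mem h6 (npow_mem_zpowers _ k) fun e => by
        simp [e, h6] at h7)).conj h8
  · obtain ⟨Q, h1, -, -, h2, x, hx, y, hy, h3⟩ := H415.M5.sylow_five
      (TID.SO.order_mk (by norm_num) CoFive.Class.order_r4) CoFive.Ranks.fr_r4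
    refine rrow_c3 (IsPGroup.of_card h1) ?_ (by rw [hN]; norm_num)
    by_contra h4
    refine h3 (h2 _ (mul_mem (mul_mem (mul_mem hx hy) (inv_mem hx)) (inv_mem hy)) fun w hw => ?_)
    by_contra h5
    exact h4 ⟨x, hx, y, hy, w, hw, fun e => h5 e.symm⟩

end Cfsg.Agent.KM.Mu.Sp
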