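import Cfsg.Agent.KM.Mu.Sp.CtB
import Cfsg.Agent.KM.Sp.Main

/-!
# S4576, the sporadic rows: `Fi24'` (helper46)
-/

set_option autoImplicit false
set_option maxRecDepth 100000
set_option linter.unusedSectionVars false

namespace Cfsg.Agent.KM.Mu.Sp

open Cfsg Subgroup Cfsg.Agent.BHZ.Spor Cfsg.Agent.TAB Cfsg.Agent.TAB.Eng Cfsg.Agent.TAB.Use Cfsg.Agent.PQ.Spor
open Cfsg.Agent.NotCT Cfsg.Agent.KM.Sp

variable {S : Type} [Group S] [Finite S]

theorem constr_sub {p : ℕ} {H : Subgroup S} (hH : ∀ x : S, (∃ k : ℕ, x ^ p ^ k = 1) → x ∈ H) {s : H}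
    (h : ConstrIn p H (s : S)) : Constr p s := by
  obtain ⟨U, hU, hr⟩ := h
  exact ⟨U.subgroupOf H, hU.1.comap_subtype, fun x hx u hu => hU.2 x (hx.map H.subtype) u hu, fun r h1 h2 =>
    Subtype.ext (hr r r.2 (fun u hu => (h1 ⟨u, hH u (pelt_of_mem hU.1 hu)⟩ hu).map H.subtype) (by rwa [orderOf_coe]))⟩

theorem constr_fi24 {s : Spor.Fi24'} (ho : orderOf s = 3) (h1 : 3 ^ 9 ∣ Nat.card (centralizer ({s} : Set Spor.Fi24')))
    (h2 : ¬ 13 ∣ Nat.card (centralizer ({s} : Set Spor.Fi24'))) : Constr 3 s := by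
  have := R08.FiTwentyFour.finite_Fi24
  have : Fact (Nat.Prime 13) := ⟨by norm_num⟩
  refine constr_sub (fun x ⟨k, hk⟩ => DS.Sp.F24.mem_comm_of_odd (Odd.pow (by decide)) hk) ?_
  have h3 : (s : Spor.Fi24) ^ 3 = 1 := by rw [← ho, ← orderOf_coe, pow_orderOf_eq_one]
  have h4 : (s : Spor.Fi24) ≠ 1 := fun h => by
    rw [← orderOf_coe, h, orderOf_one] at ho
    norm_num at ho
  obtain ⟨i, hi⟩ := DS.Sp.F24S.cl_all h3 h4
  fin_cases i
  · obtain ⟨g, hg⟩ := hi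
    obtain ⟨u, hu⟩ := exists_prime_orderOf_dvd_card' 13 (G := H840.Lk.Clk) (by rw [H840.Lk.card_Clk]; norm_num)
    have h5 : Commute (u : Spor.Fi24) (H842.ThreeCl.X 0) :=
      Commute.mul_right (mem_centralizer_iff.1 u.2 _ (by simp)).symm (mem_centralizer_iff.1 u.2 _ (by simp)).symm
    have h6 : Commute (u : Spor.Fi24) (g * s * g⁻¹) := hg.elim (fun h => h ▸ h5) fun h => h ▸ h5.inv_right
    have h7 : orderOf (g⁻¹ * u * g⁻¹⁻¹) = 13 := by
      rw [← hu, ← orderOf_coe]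
      exact MulEquiv.orderOf_eq (MulAut.conj g⁻¹) _
    refine absurd (h7.symm.dvd.trans ?_) h2
    refine (orderOf_coe (⟨_, DS.Sp.F24.mem_comm_of_odd (n := 13) (by decide) (h7 ▸ pow_orderOf_eq_one _)⟩ :
      Spor.Fi24')).dvd.trans (Subgroup.orderOf_dvd_natCard _ (mem_centralizer_singleton_iff.2 (Subtype.ext ?_)))
    have h8 := (h6.map (MulAut.conj g⁻¹)).eq
    simpa [mul_assoc] using h8
  · exact (F24.constr1 h3 h4 hi).constrIn _
  · exact (F24.constr2 h3 hi).constrIn _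
  · exact F24.constr3 h3 h4 hi
  · refine absurd (h1.trans ?_) (DS.Sp.F24S.cl4 hi)
    rw [← card_map_of_injective (subtype_injective _)]
    refine card_dvd_of_comm ?_
    rintro _ ⟨x, hx, rfl⟩
    exact Commute.map (mem_centralizer_singleton_iff.1 hx) (commutator Spor.Fi24).subtype

theorem fi24_3 [Fact (Nat.Prime 3)] (h : Spor.IsoFi24' S) : RRow 3 S := by
  obtain ⟨e⟩ := h
  have := Finite.of_equiv S e.toEquiv
  obtain ⟨X, _, _, ⟨C⟩⟩ := F24C.inF24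
  have h1 : ∀ t ∈ [3, 4, 6, 77], t < 94 ∧ F24.kind.getD t 0 = 0 := by decide
  refine RRow.of_equiv e (okFi24_3.rrow (Hy.of_one C.mass' C.mn.tab _ (fun e he => ?_) (by decide +kernel)) RatL.nil
    (fun _ h => absurd h List.not_mem_nil) fun s hs => ?_)
  · have h2 := h1 _ (List.mem_cons_of_mem _ (List.mem_cons_of_mem _ (List.mem_map_of_mem (f := Prod.fst) he)))
    exact C.one _ h2.1 h2.2
  have h2 := h1 _ (List.mem_append_left [77] hs)
  have h3 := Nat.eq_div_of_mul_eq_right (cnt_pos C.mass' s).ne'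
    (card_of_one C.mass' (g := s) fun x hx => C.one _ h2.1 h2.2 s x rfl hx)
  have h4 := (by decide +kernel : ∀ t ∈ [3, 4, 6], F24.DT.ord t = 3 ∧ 3 ^ 9 ∣ F24.DT.N / F24.DT.cnt t ∧
    ¬ 13 ∣ F24.DT.N / F24.DT.cnt t) _ hs
  exact constr_fi24 ((C.T'.ord s).trans h4.1) (h3 ▸ h4.2.1) (h3 ▸ h4.2.2)

end Cfsg.Agent.KM.Mu.Sp
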