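import Cfsg.Agent.KM.Mu.Sp.Gen
import Cfsg.Agent.KM.Sp.RowA
import Cfsg.Agent.H573.Spor.ONThree

/-!
# S4576, the sporadic rows: the O'Nan group (helper46)
-/

set_option autoImplicit false
set_option maxRecDepth 100000
set_option linter.unusedSectionVars false

namespace Cfsg.Agent.KM.Mu.Sp

open Cfsg Subgroup Cfsg.Agent.BHZ.Spor Cfsg.Agent.TAB Cfsg.Agent.TAB.Eng Cfsg.Agent.NotCT

theorem on_3 {S : Type} [Group S] [Finite S] [Fact (Nat.Prime 3)] (h : Spor.IsoON S) : RRow 3 S := by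
  obtain ⟨e⟩ := h
  have := Finite.of_equiv S e.toEquiv
  obtain ⟨T, hm, hr, -⟩ := ON.exists_tab
  refine RRow.of_equiv e (rrow_of_cf fun g P W F => ?_)
  obtain ⟨Q, hQ⟩ := F.pg.exists_le_sylow
  have h1 : 3 ^ 4 ∣ Nat.card P := (pow_add 3 2 2 ▸ Nat.mul_dvd_mul_left _ F.two).trans F.idx
  obtain rfl : P = Q := eq_of_le_of_card_ge hQ (by
    rw [Q.card_eq_multiplicity]
    refine (Nat.pow_le_pow_right (by norm_num) (not_lt.1 fun h2 => ?_)).trans (Nat.le_of_dvd Nat.card_pos h1)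
    have h3 := (Nat.prime_three.pow_dvd_iff_le_factorization Nat.card_pos.ne').2 h2
    rw [hm.1] at h3
    exact absurd h3 (by decide +kernel))
  have := H573.Spor.on_3 ⟨MulEquiv.refl _⟩ Q
  obtain ⟨x, hx, ho⟩ := F.exists_ord
  have h2 : ∀ y ∈ (Q : Subgroup Spor.ON), y ≠ 1 → T.ty y = 2 := fun y hy h3 => by
    obtain ⟨k, hk⟩ := (IsPGroup.iff_orderOf.1 F.pg) ⟨y, hy⟩
    rw [Subgroup.orderOf_mk] at hk
    refine (by decide +kernel : ∀ i < ON.dON.n, ON.dON.ord i ∣ 3 ^ 4 → ON.dON.ord i ≠ 1 → i = 2) _ (T.lt y) ?_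
      fun h4 => h3 (orderOf_eq_one_iff.1 ((T.ord y).trans h4))
    rw [← T.ord, hk]
    refine pow_dvd_pow 3 (not_lt.1 fun h4 => ?_)
    exact absurd ((pow_dvd_pow 3 h4).trans (hm.1 ▸ hk ▸ orderOf_dvd_natCard y)) (by decide +kernel)
  have h3 : (Q : Subgroup Spor.ON) ≤ W := fun y hy => by
    by_cases h4 : y = 1
    · exact h4 ▸ one_mem W
    obtain ⟨k, hk⟩ := hr x y ((h2 x (F.le hx) fun h => by simp [h] at ho).trans (h2 y hy h4).symm)
    obtain ⟨c, rfl⟩ := isConj_iff.1 hk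
    obtain ⟨n, hn, h5⟩ := Q.conj_eq_normalizer_conj_of_mem (x ^ k) c⁻¹ (F.le (pow_mem hx k)) (by rwa [inv_inv])
    rw [inv_inv] at h5
    have h6 := F.nrm n⁻¹ (fun d hd => (mem_normalizer_iff.1 (inv_mem hn) d).1 hd) _ (pow_mem hx k)
    rwa [inv_inv, ← h5] at h6
  have h4 := Nat.le_of_dvd Nat.card_pos (F.idx.trans (card_dvd_of_le h3))
  have h5 : 0 < Nat.card W := Nat.card_pos
  omega

end Cfsg.Agent.KM.Mu.Sp
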