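import Cfsg.Agent.KM.Mu.Sp.RowB
import Cfsg.Agent.KM.Mu.Sp.RowBM
import Cfsg.Agent.KM.Mu.Sp.RowCo
import Cfsg.Agent.KM.Mu.Sp.RowF
import Cfsg.Agent.KM.Mu.Sp.RowON

/-!
# S4576, the sporadic rows (helper46)

`rowSpor : RRowFor CSpor`, `rowTits : RRowFor CTits`.
-/

set_option autoImplicit false
set_option maxRecDepth 100000

namespace Cfsg.Agent.KM.Mu.Sp

open Cfsg Cfsg.Agent.PQ.Spor Cfsg.Agent.NotCT Cfsg.Agent.KM.BK

/-- the odd primes whose fourth powers divide the order -/
def fourB (N : ℕ) (L : List ℕ) : Bool :=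
  PL.prod ^ 50 % N == 0 && PL.all fun p => p == 2 || L.contains p || N % p ^ 4 != 0

theorem row_of {S : Type} [Group S] [Finite S] {p : ℕ} [hp : Fact p.Prime] (h2 : p ≠ 2) {N : ℕ} (hN : Nat.card S = N)
    (L : List ℕ) (hL : fourB N L = true) (h : L.Forall fun q => RRow q S) : RRow p S := by
  simp only [fourB, Bool.and_eq_true, beq_iff_eq, List.all_eq_true, Bool.or_eq_true, List.contains_iff_mem,
    bne_iff_ne] at hL
  by_cases h3 : p ^ 4 ∣ Nat.card S
  · rw [hN] at h3
    rcases hL.2 p (mem_PL hL.1 hp.out ((dvd_pow_self p (by norm_num)).trans h3)) with (h4 | h4) | h4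
    · exact absurd h4 h2
    · exact List.forall_iff_forall_mem.1 h p h4
    · exact absurd (Nat.mod_eq_zero_of_dvd h3) h4
  · exact rrow_of_card h3

/-- **the row of the Tits group** -/
theorem rowTits : RRowFor CTits := fun _ _ h2 _ _ _ _ _ h => row_of h2 (Orders.tits h) [] (by decide +kernel) trivial

/-- **the sporadic row** -/
theorem rowSpor : RRowFor CSpor := fun p _ h2 S _ _ _ _ h => by
  have := Fact.mk Nat.prime_three
  have := Fact.mk Nat.prime_five
  have : Fact (Nat.Prime 7) := ⟨by norm_num⟩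
  rcases h with h | h | h | h | h | h | h | h | h | h | h | h | h | h | h | h | h | h | h | h | h | h | h | h | h | h
  exacts [row_of h2 (Orders.m11 h) [] (by decide +kernel) trivial,
    row_of h2 (Orders.m12 h) [] (by decide +kernel) trivial, row_of h2 (Orders.m22 h) [] (by decide +kernel) trivial,
    row_of h2 (Orders.m23 h) [] (by decide +kernel) trivial, row_of h2 (Orders.m24 h) [] (by decide +kernel) trivial,
    row_of h2 (Orders.j1 h) [] (by decide +kernel) trivial, row_of h2 (Orders.j2 h) [] (by decide +kernel) trivial,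
    row_of h2 (Orders.j3 h) [3] (by decide +kernel) (j3_3 h), row_of h2 (Orders.j4 h) [] (by decide +kernel) trivial,
    row_of h2 (Orders.co1 h) [3, 5] (by decide +kernel) (co1_35 h),
    row_of h2 (Orders.co2 h) [3] (by decide +kernel) (co2_3 h),
    row_of h2 (Orders.co3 h) [3] (by decide +kernel) (co3_3 h),
    row_of h2 (Orders.mcl h) [3] (by decide +kernel) (mcl_3 h), row_of h2 (Orders.hs h) [] (by decide +kernel) trivial,
    row_of h2 (Orders.suz h) [3] (by decide +kernel) (suz_3 h), row_of h2 (Orders.he h) [] (by decide +kernel) trivial,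
    row_of h2 (Orders.ru h) [] (by decide +kernel) trivial, row_of h2 (Orders.on h) [3] (by decide +kernel) (on_3 h),
    row_of h2 (Orders.ly h) [3, 5] (by decide +kernel) (ly_35 h),
    row_of h2 (Orders.fi22 h) [3] (by decide +kernel) (fi22_3 h),
    row_of h2 (Orders.fi23 h) [3] (by decide +kernel) (fi23_3 h),
    row_of h2 (Orders.fi24 h) [3] (by decide +kernel) (fi24_3 h),
    row_of h2 (Orders.hn h) [3, 5] (by decide +kernel) (hn_35 h),
    row_of h2 (Orders.th h) [3] (by decide +kernel) (th_3 h), row_of h2 (Orders.b h) [3, 5] (by decide +kernel) (b_35 h),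
    row_of h2 (Orders.m h) [3, 5, 7] (by decide +kernel) (m_357 h)]

end Cfsg.Agent.KM.Mu.Sp
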